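/-
Multiply transitive actions with few fixed points: basic facts for the Livingstone–Wagner theorems.
-/
import Mathlib.GroupTheory.GroupAction.MultipleTransitivity
import Cfsg.Agent.SporadicA.SharplyTransitiveDeg

set_option autoImplicit false

namespace Cfsg.Agent.PermGroups.LW

open MulAction SubMulAction

/-- Only the identity fixes more than `k` points. -/
def Semifix (G : Type*) [Group G] (α : Type*) [MulAction G α] (k : ℕ) : Prop :=
  ∀ (g : G) (s : Finset α), k < s.card → (∀ x ∈ s, g • x = x) → g = 1

variable {G : Type*} [Group G] {α : Type*} [MulAction G α] {k : ℕ}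

theorem exists_map (ht : IsMultiplyPretransitive G α k) {a b : Fin k → α}
    (ha : Function.Injective a) (hb : Function.Injective b) : ∃ g : G, ∀ i, g • a i = b i := by
  obtain ⟨g, hg⟩ := ht.exists_smul_eq ⟨a, ha⟩ ⟨b, hb⟩
  exact ⟨g, fun i => DFunLike.congr_fun hg i⟩

theorem exists_map_four (ht : IsMultiplyPretransitive G α 4) {a b c d a' b' c' d' : α}
    (h : [a, b, c, d].Nodup) (h' : [a', b', c', d'].Nodup) :
    ∃ g : G, g • a = a' ∧ g • b = b' ∧ g • c = c' ∧ g • d = d' :=
  SharplyTransitive.exists_map4 ht h h'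

theorem Semifix.faithful [Fintype α] (hs : Semifix G α k) (hk : k < Fintype.card α) :
    FaithfulSMul G α := by
  refine ⟨fun {g h} e => ?_⟩
  have : h⁻¹ * g = 1 := hs _ Finset.univ (by simpa using hk) fun x _ => by
    rw [mul_smul, e x, inv_smul_smul]
  exact (eq_of_inv_mul_eq_one this).symm

/-- An element with many fixed points, listed by a duplicate free list, is the identity. -/
theorem Semifix.eq_one [DecidableEq α] (hs : Semifix G α k) {g : G} (l : List α) (hl : l.Nodup)
    (hlen : k < l.length) (hfix : ∀ x ∈ l, g • x = x) : g = 1 :=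
  hs g l.toFinset (by rwa [List.toFinset_card_of_nodup hl]) fun x hx => hfix x (List.mem_toFinset.mp hx)

/-- The fixed points of a non-trivial element outside a given set are few. -/
theorem Semifix.card_fixed_le [Fintype α] [DecidableEq α] (hs : Semifix G α k) {g : G} (hg : g ≠ 1)
    (s : Finset α) (hfix : ∀ x ∈ s, g • x = x) :
    (Finset.univ.filter fun x => g • x = x ∧ x ∉ s).card + s.card ≤ k := by
  by_contra h
  refine hg (hs g ((Finset.univ.filter fun x => g • x = x ∧ x ∉ s) ∪ s) ?_ fun x hx => ?_)
  · rw [Finset.card_union_of_disjoint (Finset.disjoint_left.mpr fun x hx => by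
      simp only [Finset.mem_filter] at hx; exact hx.2.2)]
    omega
  · rcases Finset.mem_union.mp hx with hx | hx
    · exact (Finset.mem_filter.mp hx).2.1
    · exact hfix x hx

/-- The pointwise stabiliser of a set inherits the fixed point bound. -/
theorem Semifix.ofFixing [DecidableEq α] (hs : Semifix G α k) (s : Finset α) :
    Semifix (fixingSubgroup G (s : Set α)) (ofFixingSubgroup G (s : Set α)) (k - s.card) := by
  intro g t ht hfix
  refine Subtype.ext (hs (g : G) (t.map (Function.Embedding.subtype _) ∪ s) ?_ fun x hx => ?_)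
  · rw [Finset.card_union_of_disjoint (Finset.disjoint_left.mpr fun x hx => ?_), Finset.card_map]
    · omega
    · obtain ⟨y, -, rfl⟩ := Finset.mem_map.mp hx
      exact y.2
  · rcases Finset.mem_union.mp hx with hx | hx
    · obtain ⟨y, hy, rfl⟩ := Finset.mem_map.mp hx
      exact congrArg Subtype.val (hfix y hy)
    · exact g.2 ⟨x, hx⟩

theorem ofFixing_transitive (ht : IsMultiplyPretransitive G α k) (s : Finset α) {m : ℕ}
    (hm : s.card + m = k) :
    IsMultiplyPretransitive (fixingSubgroup G (s : Set α)) (ofFixingSubgroup G (s : Set α)) m :=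
  @ofFixingSubgroup.isMultiplyPretransitive G α _ _ m k ht (s : Set α) _
    (by rw [Set.ncard_coe_finset]; exact hm)

theorem card_ofFixing [Fintype α] (s : Finset α) :
    Nat.card (ofFixingSubgroup G (s : Set α)) = Fintype.card α - s.card := by
  classical
  rw [show Nat.card (ofFixingSubgroup G (s : Set α)) = Nat.card {x : α // x ∉ s} from
    Nat.card_congr (Equiv.subtypeEquivRight fun x => by rfl), Nat.card_eq_fintype_card,
    Fintype.card_subtype_compl, Fintype.card_coe]

/-- Orbit counting on tuples. -/
theorem card_eq [Fintype α] [Finite G] (ht : IsMultiplyPretransitive G α k) (x : Fin k ↪ α) :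
    Nat.card G = (Fintype.card α).descFactorial k * Nat.card (stabilizer G x) := by
  have := ht
  rw [← (stabilizer G x).index_mul_card, index_stabilizer_of_transitive G x, Nat.card_eq_fintype_card,
    Fintype.card_embedding_eq, Fintype.card_fin]

theorem card_stabilizer_eq [Fintype α] [Finite G] (ht : IsMultiplyPretransitive G α k) (hk : k ≤ Fintype.card α)
    (x y : Fin k ↪ α) : Nat.card (stabilizer G x) = Nat.card (stabilizer G y) := by
  have h1 := card_eq ht x
  rw [card_eq ht y] at h1
  exact (Nat.eq_of_mul_eq_mul_left (Nat.descFactorial_pos.mpr hk) h1).symm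

theorem card_fixing [Fintype α] [Finite G] (ht : IsMultiplyPretransitive G α k) (s : Finset α)
    (hsk : s.card ≤ k) (hk : k ≤ Fintype.card α) :
    Nat.card G = (Fintype.card α).descFactorial s.card * Nat.card (fixingSubgroup G (s : Set α)) := by
  have := ht
  have ht' : IsMultiplyPretransitive G α (s : Set α).ncard :=
    isMultiplyPretransitive_of_le (n := k) (by rwa [Set.ncard_coe_finset])
      (by rwa [Nat.card_eq_fintype_card])
  rw [← (fixingSubgroup G (s : Set α)).index_mul_card, ht'.index_of_fixingSubgroup_eq,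
    Set.ncard_coe_finset, Nat.card_eq_fintype_card, Nat.descFactorial_eq_factorial_mul_choose,
    mul_comm s.card.factorial]

section PrimeDegree

variable [Fintype α] [Finite G] [FaithfulSMul G α]

/-- A faithful transitive action of prime degree bounds the Sylow normaliser. -/
theorem exists_sylow_index [IsPretransitive G α] {q d : ℕ} (hq : q.Prime) (hα : Fintype.card α = q)
    (hG : Nat.card G = q * d) (hd : ¬ q ∣ d) : ∃ s, s ∣ d ∧ s % q = 1 ∧ d / s ∣ q - 1 := by
  have := Fact.mk hq
  obtain ⟨P⟩ : Nonempty (Sylow q G) := inferInstance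
  obtain ⟨-, d', hd', hN⟩ := SharplyTransitive.sylow_prime_degree (G := G) (α := α)
    (by rw [Nat.card_eq_fintype_card, hα]) P (SharplyTransitive.sylow_card P hG hd)
  have h1 := (Subgroup.normalizer ((P : Subgroup G) : Set G)).card_mul_index
  rw [hN, hG, mul_assoc] at h1
  have h2 : d' * (Subgroup.normalizer ((P : Subgroup G) : Set G)).index = d :=
    Nat.eq_of_mul_eq_mul_left hq.pos h1
  refine ⟨(Subgroup.normalizer ((P : Subgroup G) : Set G)).index, ⟨d', by rw [mul_comm, h2]⟩, ?_, ?_⟩
  · have := card_sylow_modEq_one q G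
    rw [P.card_eq_index_normalizer, Nat.ModEq, Nat.mod_eq_of_lt hq.one_lt] at this
    exact this
  · rw [← h2, Nat.mul_div_cancel _ (Nat.pos_of_ne_zero fun e => ?_)]
    · exact hd'
    · rw [e, mul_zero] at h2
      exact hd (h2 ▸ dvd_zero q)

end PrimeDegree

/-- The orders excluded by the Sylow count. -/
def NoIndex (q d : ℕ) : Prop := ∀ s : Fin (d + 1), (s : ℕ) ∣ d → (s : ℕ) % q = 1 → ¬ d / s ∣ q - 1

theorem no_prime_degree [Fintype α] [Finite G] [FaithfulSMul G α] [IsPretransitive G α] (q d : ℕ)
    (hq : q.Prime) (hα : Fintype.card α = q) (hd : ¬ q ∣ d) (hno : NoIndex q d) :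
    Nat.card G ≠ q * d := by
  intro hG
  obtain ⟨s, hsd, hs1, hs2⟩ := exists_sylow_index hq hα hG hd
  have hd0 : d ≠ 0 := fun e => hd (e ▸ dvd_zero q)
  exact hno ⟨s, Nat.lt_succ_of_le (Nat.le_of_dvd (Nat.pos_of_ne_zero hd0) hsd)⟩ hsd hs1 hs2

/-- The same for a doubly transitive action of degree one more than a prime. -/
theorem no_prime_succ_degree [Fintype α] [Finite G] [FaithfulSMul G α]
    (ht : IsMultiplyPretransitive G α 2) (q d : ℕ) (hq : q.Prime) (hα : Fintype.card α = q + 1)
    (hd : ¬ q ∣ d) (hno : NoIndex q d) : Nat.card G ≠ (q + 1) * (q * d) := by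
  classical
  intro hG
  obtain ⟨a⟩ : Nonempty α := Fintype.card_pos_iff.mp (by omega)
  have := ht
  have : IsPretransitive G α := isPretransitive_of_is_two_pretransitive
  have : IsPretransitive (stabilizer G a) (ofStabilizer G a) :=
    is_one_pretransitive_iff.mp (ofStabilizer.isMultiplyPretransitive.mp ht)
  have hcard : Fintype.card (ofStabilizer G a) = q := by
    rw [← Nat.card_eq_fintype_card, nat_card_ofStabilizer_eq G a, Nat.card_eq_fintype_card, hα]
    rfl
  have : FaithfulSMul (stabilizer G a) (ofStabilizer G a) := ⟨fun {g h} e => by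
    refine Subtype.ext (FaithfulSMul.eq_of_smul_eq_smul (α := α) fun x => ?_)
    by_cases hx : x = a
    · rw [hx, g.2, h.2]
    · exact congrArg Subtype.val (e ⟨x, hx⟩)⟩
  refine no_prime_degree (G := stabilizer G a) (α := ofStabilizer G a) q d hq hcard hd hno ?_
  have h1 := (stabilizer G a).index_mul_card
  rw [index_stabilizer_of_transitive G a, Nat.card_eq_fintype_card, hα, hG] at h1
  exact Nat.eq_of_mul_eq_mul_left (Nat.succ_pos q) h1

end Cfsg.Agent.PermGroups.LW
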