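/-
Group automorphisms of order two and three with few fixed points.
-/
import Mathlib.GroupTheory.Index
import Mathlib.Algebra.Group.End
import Mathlib.Tactic.Group
import Mathlib.Combinatorics.Pigeonhole
import Mathlib.SetTheory.Cardinal.Finite

set_option autoImplicit false

namespace Cfsg.Agent.PermGroups.LW

variable {K : Type*} [Group K] [Finite K]

/-- For an automorphism of order two the elements are bounded by fixed times inverted ones. -/
theorem card_le_fixed_mul_inverted (τ : K →* K) (h2 : ∀ k, τ (τ k) = k) :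
    Nat.card K ≤ Nat.card {k : K // τ k = k} * Nat.card {k : K // τ k = k⁻¹} := by
  classical
  have := Fintype.ofFinite K
  let f : K → K := fun k => k⁻¹ * τ k
  rw [Nat.card_eq_fintype_card, Nat.card_eq_fintype_card, Nat.card_eq_fintype_card,
    Fintype.card_subtype, Fintype.card_subtype, ← Finset.card_univ]
  refine le_trans ?_ (le_of_eq (mul_comm _ _))
  have hmem : ∀ k ∈ (Finset.univ : Finset K), f k ∈ Finset.univ.filter fun k => τ k = k⁻¹ := fun k _ => by
    simp [f, h2]
  refine le_trans (Finset.card_le_mul_card_image_of_maps_to hmem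
    (Finset.univ.filter fun k => τ k = k).card fun y _ => ?_) (le_of_eq (mul_comm _ _))
  rcases Finset.eq_empty_or_nonempty ((Finset.univ : Finset K).filter fun k => f k = y) with h | ⟨k₀, hk₀⟩
  · simp [h]
  · refine Finset.card_le_card_of_injOn (fun k => k * k₀⁻¹) (fun k hk => ?_) (fun a _ b _ h => by simpa using h)
    simp only [Finset.coe_filter, Finset.mem_filter, Finset.mem_univ, true_and, Set.mem_ofPred_eq,
      Finset.mem_coe, f] at hk hk₀ ⊢
    rw [inv_mul_eq_iff_eq_mul] at hk hk₀
    rw [map_mul, map_inv, hk, hk₀]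
    group

/-- If an automorphism of order two fixes only the identity it inverts everything. -/
theorem inverted_of_fixed_trivial (τ : K →* K) (h2 : ∀ k, τ (τ k) = k) (hC : ∀ k, τ k = k → k = 1)
    (k : K) : τ k = k⁻¹ := by
  have hinj : Function.Injective fun k => k⁻¹ * τ k := fun a b h => by
    refine eq_of_mul_inv_eq_one (hC _ ?_)
    have h' : τ a = a * (b⁻¹ * τ b) := by simp only at h; rw [← h]; group
    rw [map_mul, map_inv, h']
    group
  obtain ⟨j, rfl⟩ := Finite.surjective_of_injective hinj k
  simp [h2]

/-- An automorphism of order two inverting everything makes the group commutative. -/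
theorem comm_of_inverts (z : K →* K) (hz : ∀ k, z k = k⁻¹) (a b : K) : a * b = b * a := by
  have := map_mul z a⁻¹ b⁻¹
  simp only [hz, mul_inv_rev, inv_inv] at this
  exact this.symm

/-- Two commuting automorphisms of order two whose product inverts everything. -/
theorem card_le_of_product_inverts (τ z : K →* K) (h2 : ∀ k, τ (τ k) = k) (hz : ∀ k, z k = k⁻¹) :
    Nat.card K ≤ Nat.card {k : K // τ k = k} * Nat.card {k : K // τ (z k) = k} := by
  refine (card_le_fixed_mul_inverted τ h2).trans (Nat.mul_le_mul_left _ (le_of_eq ?_))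
  refine Nat.card_congr (Equiv.subtypeEquivRight fun k => ?_)
  rw [hz, map_inv]
  exact ⟨fun h => by rw [h, inv_inv], fun h => by rw [← inv_inj, inv_inv, h]⟩

/-- A fixed point free automorphism of order three inverted by an involution. -/
theorem card_le_sq (τ w : K →* K) (h2 : ∀ k, τ (τ k) = k) (h3 : ∀ k, w (w (w k)) = k)
    (hw : ∀ k, w k = k → k = 1) (hτw : ∀ k, τ (w k) = w (w (τ k))) :
    Nat.card K ≤ Nat.card {k : K // τ k = k} * Nat.card {k : K // τ k = k} := by
  have hinj : Function.Injective fun k => k⁻¹ * w k := fun a b h => by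
    refine eq_of_mul_inv_eq_one (hw _ ?_)
    have h' : w a = a * (b⁻¹ * w b) := by simp only at h; rw [← h]; group
    rw [map_mul, map_inv, h']
    group
  have hprod : ∀ k : K, k * w k * w (w k) = 1 := fun k => by
    obtain ⟨j, rfl⟩ := Finite.surjective_of_injective hinj k
    simp [h3, mul_assoc]
  have hcomm : ∀ k : K, k * w k = w k * k := fun k => by
    have e1 := eq_inv_of_mul_eq_one_left (hprod k)
    have e2 := hprod k⁻¹
    rw [map_inv, map_inv, ← inv_inj, inv_one, mul_inv_rev, mul_inv_rev, inv_inv, inv_inv, inv_inv] at e2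
    have e2' : w k * k = (w (w k))⁻¹ := eq_inv_of_mul_eq_one_right e2
    rw [e1, e2']
  refine (card_le_fixed_mul_inverted τ h2).trans (Nat.mul_le_mul_left _ ?_)
  refine Nat.card_le_card_of_injective
    (fun i => ⟨(w (w (i : K)))⁻¹ * w i, ?_⟩) fun a b h => ?_
  · have h1 : τ (w i) = (w (w (i : K)))⁻¹ := by rw [hτw, i.2, map_inv, map_inv]
    have h2' : τ (w (w (i : K))) = (w (i : K))⁻¹ := by
      rw [hτw, h1, map_inv, map_inv, h3]
    rw [map_mul, map_inv, h1, h2', inv_inv]
    exact (Commute.inv_left (show Commute (w (w (i : K))) (w i) from (hcomm (w i)).symm)).eq.symm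
  · have h' : (w (w (a : K)))⁻¹ * w a = (w (w (b : K)))⁻¹ * w b := congrArg Subtype.val h
    have h'' : w b * (w a)⁻¹ = 1 := hw _ (by
      rw [map_mul, map_inv]
      have : w (w (b : K)) = w b * ((w (w (a : K)))⁻¹ * w a)⁻¹ := by rw [h']; group
      rw [this]; group)
    exact Subtype.ext (Function.Injective.eq_iff
      (Function.LeftInverse.injective (g := fun k => w (w k)) h3) |>.mp (eq_of_mul_inv_eq_one h'').symm)

end Cfsg.Agent.PermGroups.LW
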