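/-
Four-transitive actions in which only the identity fixes five points have degree at most twelve.
-/
import Cfsg.Agent.PermGroups.LW.Basic
import Cfsg.Agent.PermGroups.LW.Kernel
import Cfsg.Agent.PermGroups.Frobenius

set_option autoImplicit false
set_option linter.style.haveILetI false
set_option maxHeartbeats 1000000

namespace Cfsg.Agent.PermGroups.LW

open MulAction

variable {G : Type*} [Group G] {α : Type*} [MulAction G α]

/-- A point is one of three. -/
abbrev OfThree (a b c x : α) : Prop := x = a ∨ x = b ∨ x = c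

/-- The regular normal subgroup of the stabiliser of three points. -/
structure KerData (a b c : α) (K : Subgroup G) : Prop where
  fix : ∀ k ∈ K, ∀ x, OfThree a b c x → k • x = x
  free : ∀ k ∈ K, ∀ x, ¬ OfThree a b c x → k • x = x → k = 1
  trans : ∀ x y, ¬ OfThree a b c x → ¬ OfThree a b c y → ∃ k ∈ K, k • x = y
  conj : ∀ g : G, (∀ x, OfThree a b c x → OfThree a b c (g • x)) → ∀ k ∈ K, g * k * g⁻¹ ∈ K

omit [MulAction G α] in
theorem conj_conj_of_invol {t : G} (htt : t * t = 1) (k : G) : t * (t * k * t⁻¹) * t⁻¹ = k := by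
  rw [show t * (t * k * t⁻¹) * t⁻¹ = (t * t) * k * (t * t)⁻¹ by group, htt]
  group

variable [Fintype α] [Finite G]

theorem three_le_card {a b c : α} (h : [a, b, c].Nodup) : 3 ≤ Fintype.card α :=
  h.length_le_card

theorem exists_kerData (ht : IsMultiplyPretransitive G α 4) (hs : Semifix G α 4) {a b c : α}
    (h : [a, b, c].Nodup) : ∃ K : Subgroup G, KerData a b c K := by
  classical
  let M : Subgroup G := stabilizer G a ⊓ stabilizer G b ⊓ stabilizer G c
  have hM : ∀ g : G, g ∈ M ↔ ∀ x, OfThree a b c x → g • x = x := fun g => by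
    simp only [M, Subgroup.mem_inf, mem_stabilizer_iff, OfThree]
    exact ⟨fun hg x hx => by rcases hx with rfl | rfl | rfl <;> tauto,
      fun hg => ⟨⟨hg a (Or.inl rfl), hg b (Or.inr (Or.inl rfl))⟩, hg c (Or.inr (Or.inr rfl))⟩⟩
  letI : MulAction M {x : α // ¬ OfThree a b c x} :=
    { smul := fun g x => ⟨(g : G) • (x : α), fun hx => x.2 (by
        have h1 := (hM _).mp (M.inv_mem g.2) _ hx
        rw [inv_smul_smul] at h1
        rwa [← h1] at hx)⟩
      one_smul := fun x => Subtype.ext (one_smul G (x : α))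
      mul_smul := fun g g' x => Subtype.ext (mul_smul (g : G) g' (x : α)) }
  have hsm : ∀ (g : M) (x : {x : α // ¬ OfThree a b c x}), ((g • x : _) : α) = (g : G) • (x : α) :=
    fun _ _ => rfl
  have hcons : ∀ x, ¬ OfThree a b c x → [a, b, c, x].Nodup := fun x hx => by
    simp only [OfThree, not_or] at hx
    simp only [List.nodup_cons, List.mem_cons, List.not_mem_nil, or_false, not_or] at h ⊢
    exact ⟨⟨h.1.1, h.1.2, Ne.symm hx.1⟩, ⟨h.2.1, Ne.symm hx.2.1⟩, Ne.symm hx.2.2, not_false, List.nodup_nil⟩
  have : IsPretransitive M {x : α // ¬ OfThree a b c x} := ⟨fun x y => by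
    obtain ⟨g, ga, gb, gc, gx⟩ := exists_map_four ht (hcons _ x.2) (hcons _ y.2)
    refine ⟨⟨g, (hM g).mpr fun z hz => ?_⟩, Subtype.ext gx⟩
    rcases hz with rfl | rfl | rfl <;> assumption⟩
  by_cases hne : ∃ d, ¬ OfThree a b c d
  swap
  · exact ⟨⊥, fun k hk x _ => by rw [Subgroup.mem_bot.mp hk, one_smul],
      fun k hk _ _ _ => Subgroup.mem_bot.mp hk, fun x _ hx => absurd ⟨x, hx⟩ hne,
      fun g _ k hk => by rw [Subgroup.mem_bot.mp hk]; simp⟩
  obtain ⟨d, hd⟩ := hne
  obtain ⟨K, -, hmem, -, htr, -⟩ := exists_regular_kernel (N := M) (X := {x : α // ¬ OfThree a b c x})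
    (fun n x y hxy hx hy => by
      refine Subtype.ext (hs.eq_one [a, b, c, (x : α), (y : α)] ?_ (by simp) ?_)
      · have h1 := hcons _ x.2
        have h2 := hcons _ y.2
        have h3 : (x : α) ≠ y := fun e => hxy (Subtype.ext e)
        simp only [List.nodup_cons, List.mem_cons, List.not_mem_nil, or_false, not_or] at h1 h2 ⊢
        tauto
      · intro z hz
        simp only [List.mem_cons, List.not_mem_nil, or_false] at hz
        rcases hz with rfl | rfl | rfl | rfl | rfl
        · exact (hM _).mp n.2 _ (Or.inl rfl)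
        · exact (hM _).mp n.2 _ (Or.inr (Or.inl rfl))
        · exact (hM _).mp n.2 _ (Or.inr (Or.inr rfl))
        · exact congrArg Subtype.val hx
        · exact congrArg Subtype.val hy) ⟨d, hd⟩
  refine ⟨K.map M.subtype, ?_, ?_, ?_, ?_⟩
  · rintro _ ⟨k, -, rfl⟩ x hx
    exact (hM _).mp k.2 x hx
  · rintro _ ⟨k, hk, rfl⟩ x hx hkx
    rcases (hmem k).mp hk with rfl | h1
    · rfl
    · exact absurd (Subtype.ext hkx) (h1 ⟨x, hx⟩)
  · intro x y hx hy
    obtain ⟨k, hk⟩ := htr.exists_smul_eq ⟨x, hx⟩ ⟨y, hy⟩
    exact ⟨_, ⟨(k : M), k.2, rfl⟩, congrArg Subtype.val hk⟩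
  · rintro g hg _ ⟨k, hk, rfl⟩
    simp only [Subgroup.coe_subtype]
    have hbij : ∀ y, OfThree a b c y → ∃ z, OfThree a b c z ∧ g • z = y := by
      intro y hy
      have := (Set.toFinite {z | OfThree a b c z}).surjOn_iff_bijOn_of_mapsTo
        (f := fun z => g • z) (fun z hz => hg z hz)
      obtain ⟨z, hz, rfl⟩ := ((Set.toFinite {z | OfThree a b c z}).injOn_iff_bijOn_of_mapsTo
        (f := fun z => g • z) (fun z hz => hg z hz)).mp (MulAction.injective g).injOn |>.surjOn hy
      exact ⟨z, hz, rfl⟩
    have hin : g * (k : G) * g⁻¹ ∈ M := (hM _).mpr fun x hx => by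
      obtain ⟨z, hz, rfl⟩ := hbij x hx
      rw [mul_smul, mul_smul, inv_smul_smul, (hM _).mp k.2 z hz]
    refine ⟨⟨_, hin⟩, ?_, rfl⟩
    rcases (hmem k).mp hk with rfl | h1
    · exact (hmem _).mpr (Or.inl (Subtype.ext (by simp)))
    · refine (hmem _).mpr (Or.inr fun x hx => h1 ⟨g⁻¹ • (x : α), fun e => x.2 (by
        have := hg _ e; rwa [smul_inv_smul] at this)⟩ (Subtype.ext ?_))
      have h2 : (g * (k : G) * g⁻¹) • (x : α) = x := congrArg Subtype.val hx
      rw [mul_smul, mul_smul] at h2
      exact eq_inv_smul_iff.mpr h2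

variable {a b c : α} {K : Subgroup G}

/-- Conjugation of the kernel by an element permuting the three points. -/
def KerData.conjHom (hK : KerData a b c K) (g : G) (hg : ∀ x, OfThree a b c x → OfThree a b c (g • x)) :
    K →* K where
  toFun k := ⟨g * k * g⁻¹, hK.conj g hg k k.2⟩
  map_one' := Subtype.ext (by simp)
  map_mul' k l := Subtype.ext (by simp [mul_assoc])

theorem KerData.coe_conjHom (hK : KerData a b c K) (g : G) (hg) (k : K) :
    ((hK.conjHom g hg k : K) : G) = g * k * g⁻¹ := rfl

theorem KerData.not_ofThree (hK : KerData a b c K) {d : α} (hd : ¬ OfThree a b c d) {k : G} (hk : k ∈ K) :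
    ¬ OfThree a b c (k • d) := fun h => hd (by
  have := hK.fix k⁻¹ (K.inv_mem hk) _ h
  rw [inv_smul_smul] at this
  rwa [← this] at h)

theorem KerData.eq_of_smul_eq (hK : KerData a b c K) {d : α} (hd : ¬ OfThree a b c d) {k l : G}
    (hk : k ∈ K) (hl : l ∈ K) (h : k • d = l • d) : k = l := by
  have := hK.free _ (K.mul_mem (K.inv_mem hl) hk) d hd (by rw [mul_smul, h, inv_smul_smul])
  exact (eq_of_inv_mul_eq_one this).symm

theorem KerData.card_le (hK : KerData a b c K) {d : α} (hd : ¬ OfThree a b c d) [DecidableEq α] :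
    Fintype.card α ≤ Nat.card K + 3 := by
  classical
  have := Fintype.ofFinite K
  have h2 : (Finset.univ : Finset α) ⊆ (Finset.univ : Finset K).image (fun k : K => (k : G) • d) ∪ {a, b, c} := by
    intro x _
    by_cases hx : OfThree a b c x
    · exact Finset.mem_union_right _ (by simpa [OfThree] using hx)
    · obtain ⟨k, hk, he⟩ := hK.trans d x hd hx
      exact Finset.mem_union_left _ (Finset.mem_image.mpr ⟨⟨k, hk⟩, Finset.mem_univ _, he⟩)
  have h3 := (Finset.card_le_card h2).trans (Finset.card_union_le _ _)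
  rw [Finset.card_univ] at h3
  refine h3.trans (Nat.add_le_add ?_ Finset.card_le_three)
  rw [Nat.card_eq_fintype_card]
  exact Finset.card_image_le.trans_eq Finset.card_univ

/-- An element fixing `d` and centralised by all of the kernel fixes everything outside. -/
theorem KerData.fixes_of_centralises (hK : KerData a b c K) {d : α} (hd : ¬ OfThree a b c d) {g : G}
    (hgd : g • d = d) (hcen : ∀ k ∈ K, g * k * g⁻¹ = k) {x : α} (hx : ¬ OfThree a b c x) :
    g • x = x := by
  obtain ⟨k, hk, rfl⟩ := hK.trans d x hd hx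
  conv_rhs => rw [← hcen k hk, mul_smul, mul_smul, show g⁻¹ • d = d from inv_smul_eq_iff.mpr hgd.symm]

/-- Fixed points of conjugation correspond to fixed points. -/
theorem KerData.fixed_smul (hK : KerData a b c K) {d : α} {g : G} (hgd : g • d = d) {hg} {k : K}
    (hk : hK.conjHom g hg k = k) : g • (k : G) • d = (k : G) • d := by
  have h1 : g * k * g⁻¹ = (k : G) := congrArg Subtype.val hk
  have h2 : (g * k * g⁻¹) • d = (k : G) • d := by rw [h1]
  rwa [mul_smul, mul_smul, show g⁻¹ • d = d from inv_smul_eq_iff.mpr hgd.symm] at h2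

theorem KerData.card_fixed_le (hK : KerData a b c K) (hs : Semifix G α 4) {d : α}
    (hd : ¬ OfThree a b c d) {g : G} (hg1 : g ≠ 1) (hgd : g • d = d) {hg}
    {l : List α} (hl : l.Nodup) (hlt : ∀ x ∈ l, OfThree a b c x ∧ g • x = x) [DecidableEq α] :
    Nat.card {k : K // hK.conjHom g hg k = k} + l.length ≤ 4 := by
  classical
  have := Fintype.ofFinite K
  have h1 := hs.card_fixed_le hg1 l.toFinset fun x hx => (hlt x (List.mem_toFinset.mp hx)).2
  rw [List.toFinset_card_of_nodup hl] at h1
  refine le_trans (Nat.add_le_add_right ?_ _) h1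
  rw [Nat.card_eq_fintype_card, ← Finset.card_univ]
  refine Finset.card_le_card_of_injOn (fun k => ((k : K) : G) • d) (fun k _ => ?_)
    fun k _ l _ h => Subtype.ext (Subtype.ext (hK.eq_of_smul_eq hd k.1.2 l.1.2 h))
  simp only [Finset.coe_filter, Finset.mem_univ, true_and, Set.mem_ofPred_eq]
  exact ⟨hK.fixed_smul hgd k.2, fun h =>
    hK.not_ofThree hd k.1.2 ((hlt _ (List.mem_toFinset.mp h)).1)⟩

/-- An element fixing no further point inverts the kernel. -/
theorem KerData.inverts (hK : KerData a b c K) {d : α} (hd : ¬ OfThree a b c d) {g : G}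
    (hgd : g • d = d) (hgg : g * g = 1) {hg} (hno : ∀ x, ¬ OfThree a b c x → x ≠ d → g • x ≠ x)
    (k : K) : hK.conjHom g hg k = k⁻¹ := by
  refine inverted_of_fixed_trivial _ (fun k => Subtype.ext ?_) (fun k hk => ?_) k
  · exact conj_conj_of_invol hgg (k : G)
  · refine Subtype.ext (hK.free k k.2 d hd ?_)
    by_contra hne
    exact hno _ (hK.not_ofThree hd k.2) hne (hK.fixed_smul hgd hk)

/-- Degree bound when four points have a stabiliser of even order. -/
theorem card_le_of_even (ht : IsMultiplyPretransitive G α 4) (hs : Semifix G α 4)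
    (hn : 6 ≤ Fintype.card α) {a b c d : α} (h : [a, b, c, d].Nodup) {z : G} (hz1 : z ≠ 1)
    (hz : z * z = 1) (hzfix : ∀ x ∈ [a, b, c, d], z • x = x) : Fintype.card α ≤ 12 := by
  classical
  have habc : [a, b, c].Nodup := h.sublist (by simp)
  have hd : ¬ OfThree a b c d := by
    simp only [List.nodup_cons, List.mem_cons, List.not_mem_nil, or_false, not_or] at h
    rintro (e | e | e)
    exacts [h.1.2.2 e.symm, h.2.1.2 e.symm, h.2.2.1 e.symm]
  obtain ⟨K, hK⟩ := exists_kerData ht hs habc
  have hfix4 : ∀ u : G, (∀ x ∈ [a, b, c, d], u • x = x) → u ≠ 1 → ∀ x, x ∉ [a, b, c, d] → u • x ≠ x :=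
    fun u hu hu1 x hx e => hu1 (hs.eq_one [a, b, c, d, x] (by
      simp only [List.mem_cons, List.not_mem_nil, or_false, not_or] at hx
      simp only [List.nodup_cons, List.mem_cons, List.not_mem_nil, or_false, not_or] at h ⊢
      tauto) (by simp) (fun y hy => by
      simp only [List.mem_cons, List.not_mem_nil, or_false] at hy hu
      rcases hy with rfl | rfl | rfl | rfl | rfl
      exacts [hu _ (by simp), hu _ (by simp), hu _ (by simp), hu _ (by simp), e]))
  have hperm : ∀ u : G, (∀ x ∈ [a, b, c, d], u • x = x) → ∀ x, OfThree a b c x → OfThree a b c (u • x) :=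
    fun u hu x hx => by rw [hu x (by rcases hx with rfl | rfl | rfl <;> simp)]; exact hx
  -- an involution of the stabiliser of four points inverts the kernel
  have hinv : ∀ u : G, (hu : ∀ x ∈ [a, b, c, d], u • x = x) → u ≠ 1 → u * u = 1 → ∀ k : K,
      hK.conjHom u (hperm u hu) k = k⁻¹ := fun u hu hu1 huu =>
    hK.inverts hd (hu d (by simp)) huu fun x hx hxd => hfix4 u hu hu1 x (by
      simp only [OfThree, not_or] at hx
      simp [hx, hxd])
  have huniq : ∀ u : G, (∀ x ∈ [a, b, c, d], u • x = x) → u ≠ 1 → u * u = 1 → u = z := by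
    intro u hu hu1 huu
    by_contra hne
    obtain ⟨x, hx⟩ : ∃ x, x ∉ [a, b, c, d] := by
      by_contra! hc
      have := Finset.card_le_card (s := (Finset.univ : Finset α)) (t := [a, b, c, d].toFinset)
        fun x _ => List.mem_toFinset.mpr (hc x)
      rw [Finset.card_univ, List.toFinset_card_of_nodup h] at this
      simp at this
      omega
    have hzi : z⁻¹ = z := inv_eq_of_mul_eq_one_right hz
    refine hfix4 (u * z) (fun y hy => by rw [mul_smul, hzfix y hy, hu y hy]) (fun e => hne ?_) x hx ?_
    · rw [eq_inv_of_mul_eq_one_left e, hzi]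
    · refine hK.fixes_of_centralises hd ?_ (fun k hk => ?_) ?_
      · rw [mul_smul, hzfix d (by simp), hu d (by simp)]
      · have h1 : z * k * z⁻¹ = k⁻¹ := congrArg Subtype.val (hinv z hzfix hz1 hz ⟨k, hk⟩)
        have h2 : u * k⁻¹ * u⁻¹ = k := by
          have := congrArg Subtype.val (hinv u hu hu1 huu ⟨k⁻¹, K.inv_mem hk⟩)
          simpa [KerData.coe_conjHom] using this
        rw [mul_inv_rev, show u * z * k * (z⁻¹ * u⁻¹) = u * (z * k * z⁻¹) * u⁻¹ by group, h1, h2]
      · simp only [List.mem_cons, List.not_mem_nil, or_false, not_or] at hx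
        simp [OfThree, hx]
  -- a transposition on the four points
  obtain ⟨x, hx⟩ : ∃ x, x ∉ [a, b, c, d] := by
    by_contra! hc
    have := Finset.card_le_card (s := (Finset.univ : Finset α)) (t := [a, b, c, d].toFinset)
      fun x _ => List.mem_toFinset.mpr (hc x)
    rw [Finset.card_univ, List.toFinset_card_of_nodup h] at this
    simp at this
    omega
  have hzx := hfix4 z hzfix hz1 x hx
  have hzz : ∀ y : α, z • z • y = y := fun y => by rw [← mul_smul, hz, one_smul]
  have hnd : [x, z • x, a, b].Nodup := by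
    simp only [List.mem_cons, List.not_mem_nil, or_false, not_or] at hx
    have e : ∀ y ∈ [a, b, c, d], z • x ≠ y := fun y hy e => by
      have h1 := hzz x
      rw [e, hzfix y hy] at h1
      simp only [List.mem_cons, List.not_mem_nil, or_false] at hy
      rcases hy with rfl | rfl | rfl | rfl <;> tauto
    simp only [List.nodup_cons, List.mem_cons, List.not_mem_nil, or_false, not_or] at h ⊢
    exact ⟨⟨Ne.symm hzx, hx.1, hx.2.1⟩, ⟨e a (by simp), e b (by simp)⟩, h.1.1, not_false, List.nodup_nil⟩
  obtain ⟨g, g1, g2, g3, g4⟩ := exists_map_four ht hnd h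
  obtain ⟨t, ht'⟩ : ∃ t, t = g * z * g⁻¹ := ⟨_, rfl⟩
  have htt : t * t = 1 := by rw [ht', show g * z * g⁻¹ * (g * z * g⁻¹) = g * (z * z) * g⁻¹ by group, hz]; group
  have ht1 : t ≠ 1 := fun e => hz1 (by rw [ht', mul_inv_eq_one, mul_eq_left] at e; exact e)
  have hta : t • a = b := by rw [ht', mul_smul, mul_smul, ← g1, inv_smul_smul, g2]
  have htb : t • b = a := by rw [ht', mul_smul, mul_smul, ← g2, inv_smul_smul, hzz, g1]
  have htc : t • c = c := by rw [ht', mul_smul, mul_smul, ← g3, inv_smul_smul, hzfix a (by simp)]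
  have htd : t • d = d := by rw [ht', mul_smul, mul_smul, ← g4, inv_smul_smul, hzfix b (by simp)]
  have htperm : ∀ y, OfThree a b c y → OfThree a b c (t • y) := fun y hy => by
    rcases hy with rfl | rfl | rfl
    · exact Or.inr (Or.inl hta)
    · exact Or.inl htb
    · exact Or.inr (Or.inr htc)
  have hti : t⁻¹ = t := inv_eq_of_mul_eq_one_right htt
  have hmem4 : ∀ y ∈ [a, b, c, d], t • y ∈ [a, b, c, d] := fun y hy => by
    simp only [List.mem_cons, List.not_mem_nil, or_false] at hy
    rcases hy with rfl | rfl | rfl | rfl <;> simp [hta, htb, htc, htd]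
  have htz : t * z * t⁻¹ = z := by
    refine huniq _ (fun y hy => ?_) (fun e => hz1 ?_) ?_
    · rw [mul_smul, mul_smul, hti, hzfix _ (hmem4 y hy), ← mul_smul, htt, one_smul]
    · rw [mul_inv_eq_one, mul_eq_left] at e; exact e
    · rw [show t * z * t⁻¹ * (t * z * t⁻¹) = t * (z * z) * t⁻¹ by group, hz]; group
  have hcomm : t * z = z * t := mul_inv_eq_iff_eq_mul.mp htz
  have hlist : ∀ u : G, u • c = c → ∀ y ∈ [c], OfThree a b c y ∧ u • y = y := fun u hu y hy => by
    simp only [List.mem_cons, List.not_mem_nil, or_false] at hy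
    subst hy
    exact ⟨Or.inr (Or.inr rfl), hu⟩
  have htz1 : t * z ≠ 1 := fun e => by
    have := congrArg (fun u : G => u • a) e
    simp only [mul_smul, hzfix a (by simp), hta, one_smul] at this
    simp only [List.nodup_cons, List.mem_cons, not_or] at h
    exact h.1.1 this.symm
  have hpz : ∀ y, OfThree a b c y → OfThree a b c ((t * z) • y) := fun y hy => by
    rw [mul_smul]; exact htperm _ (hperm z hzfix y hy)
  have b1 := hK.card_fixed_le hs hd ht1 htd (hg := htperm) (List.nodup_singleton c) (hlist t htc)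
  have b2 := hK.card_fixed_le hs hd htz1 (by rw [mul_smul, hzfix d (by simp), htd]) (hg := hpz)
    (List.nodup_singleton c) (hlist (t * z) (by rw [mul_smul, hzfix c (by simp), htc]))
  have hle := card_le_of_product_inverts (hK.conjHom t htperm) (hK.conjHom z (hperm z hzfix))
    (fun k => Subtype.ext (conj_conj_of_invol htt (k : G)))
    (hinv z hzfix hz1 hz)
  have heq : Nat.card {k : K // hK.conjHom t htperm (hK.conjHom z (hperm z hzfix) k) = k} =
      Nat.card {k : K // hK.conjHom (t * z) hpz k = k} :=
    Nat.card_congr (Equiv.subtypeEquivRight fun k => by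
      simp only [Subtype.ext_iff, KerData.coe_conjHom, mul_inv_rev, mul_assoc])
  rw [heq] at hle
  have := hK.card_le hd
  simp only [List.length_singleton] at b1 b2
  have := hle.trans (Nat.mul_le_mul (show _ ≤ 3 by omega) (show _ ≤ 3 by omega))
  omega

/-- Degree bound when four points have a stabiliser of odd order. -/
theorem card_le_of_odd (ht : IsMultiplyPretransitive G α 4) (hs : Semifix G α 4) {a b c d : α}
    (h : [a, b, c, d].Nodup) (H : Subgroup G) (hH : ∀ u, u ∈ H ↔ ∀ x ∈ [a, b, c, d], u • x = x)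
    (hodd : Odd (Nat.card H)) (h1 : 1 < Nat.card H) : Fintype.card α ≤ 12 := by
  classical
  by_contra! hn
  have habc : [a, b, c].Nodup := h.sublist (by simp)
  have hne : a ≠ b ∧ a ≠ c ∧ a ≠ d ∧ b ≠ c ∧ b ≠ d ∧ c ≠ d := by
    simp only [List.nodup_cons, List.mem_cons, List.not_mem_nil, or_false, not_or] at h
    tauto
  have hd : ¬ OfThree a b c d := by
    rintro (e | e | e)
    exacts [hne.2.2.1 e.symm, hne.2.2.2.2.1 e.symm, hne.2.2.2.2.2 e.symm]
  obtain ⟨K, hK⟩ := exists_kerData ht hs habc
  have hHsq : ∀ u ∈ H, u * u = 1 → u = 1 := fun u hu huu => by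
    have h1 := orderOf_dvd_natCard (⟨u, hu⟩ : H)
    have h2 : orderOf (⟨u, hu⟩ : H) ∣ 2 := orderOf_dvd_of_pow_eq_one (Subtype.ext (by simpa [sq] using huu))
    have h3 : orderOf (⟨u, hu⟩ : H) = 1 :=
      Nat.eq_one_of_dvd_coprimes hodd.coprime_two_right h1 h2
    exact congrArg Subtype.val (orderOf_eq_one_iff.mp h3)
  -- an involution inducing a transposition
  obtain ⟨g, ga, gb, gc, gd⟩ := exists_map_four ht h (show [b, a, c, d].Nodup by
    simp only [List.nodup_cons, List.mem_cons, List.not_mem_nil, or_false, not_or] at h ⊢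
    tauto)
  obtain ⟨i, m, hm, hgo⟩ := Nat.exists_eq_two_pow_mul_odd (orderOf_pos g).ne'
  obtain ⟨t, ht'⟩ : ∃ t, t = g ^ m := ⟨_, rfl⟩
  have hact : ∀ x ∈ [a, b, c, d], g • g • x = x := fun x hx => by
    simp only [List.mem_cons, List.not_mem_nil, or_false] at hx
    rcases hx with rfl | rfl | rfl | rfl <;> simp [ga, gb, gc, gd]
  have htact : ∀ x ∈ [a, b, c, d], t • x = g • x := fun x hx => by
    obtain ⟨j, rfl⟩ := hm
    rw [ht', pow_succ', mul_smul]
    congr 1
    rw [pow_mul]
    have : ∀ j : ℕ, (g ^ 2) ^ j • x = x := fun j => by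
      induction j with
      | zero => simp
      | succ j ih => rw [pow_succ, mul_smul, sq, mul_smul, hact x hx, ← sq]; exact ih
    exact this j
  have hta : t • a = b := by rw [htact a (by simp), ga]
  have htb : t • b = a := by rw [htact b (by simp), gb]
  have htc : t • c = c := by rw [htact c (by simp), gc]
  have htd : t • d = d := by rw [htact d (by simp), gd]
  have htt : t * t = 1 := by
    have hmem : t * t ∈ H := (hH _).mpr fun x hx => by
      simp only [List.mem_cons, List.not_mem_nil, or_false] at hx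
      rcases hx with rfl | rfl | rfl | rfl <;> simp [mul_smul, hta, htb, htc, htd]
    have h2 : orderOf (⟨t * t, hmem⟩ : H) ∣ 2 ^ i := by
      rw [← Subgroup.orderOf_coe]
      refine orderOf_dvd_of_pow_eq_one ?_
      rw [Subgroup.coe_mk, ← sq, ← pow_mul, ht', ← pow_mul, show m * (2 * 2 ^ i) = orderOf g * 2 by
        rw [hgo]; ring, pow_mul, pow_orderOf_eq_one, one_pow]
    have h3 : orderOf (⟨t * t, hmem⟩ : H) = 1 :=
      Nat.eq_one_of_dvd_coprimes ((hodd.coprime_two_right).pow_right i) (orderOf_dvd_natCard _) h2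
    exact congrArg Subtype.val (orderOf_eq_one_iff.mp h3)
  have ht1 : t ≠ 1 := fun e => hne.1 (by rw [← hta, e, one_smul])
  have hti : t⁻¹ = t := inv_eq_of_mul_eq_one_right htt
  have htperm : ∀ y, OfThree a b c y → OfThree a b c (t • y) := fun y hy => by
    rcases hy with rfl | rfl | rfl
    · exact Or.inr (Or.inl hta)
    · exact Or.inl htb
    · exact Or.inr (Or.inr htc)
  -- a three-cycle on the four points
  obtain ⟨e, ea, eb, ec, ed⟩ := exists_map_four ht h (show [b, c, a, d].Nodup by
    simp only [List.nodup_cons, List.mem_cons, List.not_mem_nil, or_false, not_or] at h ⊢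
    tauto)
  obtain ⟨t', ht'e⟩ : ∃ t', t' = e * t * e⁻¹ := ⟨_, rfl⟩
  have ei : e⁻¹ • b = a ∧ e⁻¹ • c = b ∧ e⁻¹ • a = c ∧ e⁻¹ • d = d :=
    ⟨inv_smul_eq_iff.mpr ea.symm, inv_smul_eq_iff.mpr eb.symm, inv_smul_eq_iff.mpr ec.symm,
      inv_smul_eq_iff.mpr ed.symm⟩
  have t'a : t' • a = a := by simp [ht'e, mul_smul, ei, htc, ec]
  have t'b : t' • b = c := by simp [ht'e, mul_smul, ei, hta, eb]
  have t'c : t' • c = b := by simp [ht'e, mul_smul, ei, htb, ea]
  have t'd : t' • d = d := by simp [ht'e, mul_smul, ei, htd, ed]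
  have t't' : t' * t' = 1 := by
    rw [ht'e, show e * t * e⁻¹ * (e * t * e⁻¹) = e * (t * t) * e⁻¹ by group, htt]; group
  -- a further fixed point
  obtain ⟨p, hp, htp⟩ : ∃ p, p ∉ [a, b, c, d] ∧ t • p = p := by
    by_contra! hc
    have hc' : ∀ p, p ∉ [a, b, c, d] → t' • p ≠ p := fun p hp e' => by
      have hi : ∀ x ∈ [a, b, c, d], e • x ∈ [a, b, c, d] := fun x hx => by
        simp only [List.mem_cons, List.not_mem_nil, or_false] at hx
        rcases hx with rfl | rfl | rfl | rfl <;> simp [ea, eb, ec, ed]
      refine hc (e⁻¹ • p) (fun hm => hp (by simpa using hi _ hm)) ?_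
      rw [ht'e, mul_smul, mul_smul] at e'
      exact eq_inv_smul_iff.mpr e'
    have hp' : ∀ y, OfThree a b c y → OfThree a b c (t' • y) := fun y hy => by
      rcases hy with rfl | rfl | rfl
      · exact Or.inl t'a
      · exact Or.inr (Or.inr t'b)
      · exact Or.inr (Or.inl t'c)
    have i1 := hK.inverts hd htd htt (hg := htperm) fun x hx hxd => hc x (by
      simp only [OfThree, not_or] at hx; simp [hx, hxd])
    have i2 := hK.inverts hd t'd t't' (hg := hp') fun x hx hxd => hc' x (by
      simp only [OfThree, not_or] at hx; simp [hx, hxd])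
    refine hne.1 ?_
    have hone : t * t' = 1 := by
      refine hs (t * t') (Finset.univ.filter fun x => ¬ OfThree a b c x) ?_ fun x hx => ?_
      · have h2 := Finset.card_filter_add_card_filter_not (s := (Finset.univ : Finset α))
          (fun x => OfThree a b c x)
        have h3 : (Finset.univ.filter fun x => OfThree a b c x).card ≤ 3 :=
          le_trans (Finset.card_le_card (t := ({a, b, c} : Finset α)) fun x hx => by simpa using hx)
            Finset.card_le_three
        rw [Finset.card_univ] at h2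
        omega
      · refine hK.fixes_of_centralises hd (by rw [mul_smul, t'd, htd]) (fun k hk => ?_)
          (Finset.mem_filter.mp hx).2
        have q2 : t' * k * t'⁻¹ = k⁻¹ := congrArg Subtype.val (i2 ⟨k, hk⟩)
        have q1 : t * k⁻¹ * t⁻¹ = k := by
          simpa [KerData.coe_conjHom] using congrArg Subtype.val (i1 ⟨k⁻¹, K.inv_mem hk⟩)
        rw [mul_inv_rev, show t * t' * k * (t'⁻¹ * t⁻¹) = t * (t' * k * t'⁻¹) * t⁻¹ by group, q2, q1]
    have := congrArg (fun u : G => u • a) hone
    simp only [mul_smul, t'a, hta, one_smul] at this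
    exact this.symm
  have hnd5 : [a, b, c, d, p].Nodup := by
    simp only [List.mem_cons, List.not_mem_nil, or_false, not_or] at hp
    simp only [List.nodup_cons, List.mem_cons, List.not_mem_nil, or_false, not_or] at h ⊢
    tauto
  -- the transposition centralises no element of the stabiliser
  have hCH : ∀ u ∈ H, t * u * t⁻¹ = u → u = 1 := fun u hu htu => by
    refine hHsq u hu ?_
    by_contra huu
    have hu' := (hH u).mp hu
    have hu1 : u ≠ 1 := fun e => huu (by rw [e, one_mul])
    have hfix : ∀ x ∈ [a, b, c, d], (u * u) • x = x := fun x hx => by rw [mul_smul, hu' x hx, hu' x hx]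
    have hcomm : ∀ x : α, t • x = x → t • u • x = u • x := fun x hx => by
      rw [← mul_smul, mul_inv_eq_iff_eq_mul.mp htu, mul_smul, hx]
    have hup : u • p ≠ p := fun e' => hu1 (hs.eq_one [a, b, c, d, p] hnd5 (by simp) fun y hy => by
      simp only [List.mem_cons, List.not_mem_nil, or_false] at hy hu'
      rcases hy with rfl | rfl | rfl | rfl | rfl
      exacts [hu' _ (by simp), hu' _ (by simp), hu' _ (by simp), hu' _ (by simp), e'])
    have hu2p : (u * u) • p ≠ p := fun e' => huu (hs.eq_one [a, b, c, d, p] hnd5 (by simp) fun y hy => by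
      simp only [List.mem_cons, List.not_mem_nil, or_false] at hy hfix
      rcases hy with rfl | rfl | rfl | rfl | rfl
      exacts [hfix _ (by simp), hfix _ (by simp), hfix _ (by simp), hfix _ (by simp), e'])
    have h2 : (u * u) • p ≠ u • p := fun e' => hup (MulAction.injective u (by rwa [mul_smul] at e'))
    have hout : ∀ x, x ∉ [c, d] → u • x ∉ [c, d] := fun x hx hm => hx (by
      simp only [List.mem_cons, List.not_mem_nil, or_false] at hm hu' ⊢
      rcases hm with e' | e'
      · exact Or.inl (MulAction.injective u (e'.trans (hu' c (by simp)).symm))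
      · exact Or.inr (MulAction.injective u (e'.trans (hu' d (by simp)).symm)))
    have hpcd : p ∉ [c, d] := fun hm => hp (List.mem_cons_of_mem _ (List.mem_cons_of_mem _ hm))
    refine ht1 (hs.eq_one [c, d, p, u • p, (u * u) • p] ?_ (by simp) ?_)
    · have := hout p hpcd
      have := hout (u • p) this
      rw [← mul_smul] at this
      simp only [List.nodup_cons, List.mem_cons, List.not_mem_nil, or_false, not_or, not_false_eq_true,
        List.nodup_nil, and_true] at hpcd this ⊢
      have h3 := hout p (by simp [hpcd])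
      simp only [List.mem_cons, List.not_mem_nil, or_false, not_or] at h3
      exact ⟨⟨hne.2.2.2.2.2, Ne.symm hpcd.1, Ne.symm h3.1, Ne.symm this.1⟩,
        ⟨Ne.symm hpcd.2, Ne.symm h3.2, Ne.symm this.2⟩, ⟨Ne.symm hup, Ne.symm hu2p⟩, Ne.symm h2⟩
    · intro y hy
      simp only [List.mem_cons, List.not_mem_nil, or_false] at hy
      rcases hy with rfl | rfl | rfl | rfl | rfl
      exacts [htc, htd, htp, hcomm p htp, by rw [mul_smul]; exact hcomm _ (hcomm p htp)]
  have htH : ∀ u ∈ H, t * u * t⁻¹ ∈ H := fun u hu => (hH _).mpr fun x hx => by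
    have hu' := (hH u).mp hu
    have hm : t⁻¹ • x ∈ [a, b, c, d] := by
      simp only [List.mem_cons, List.not_mem_nil, or_false] at hx
      rcases hx with rfl | rfl | rfl | rfl <;> simp [hti, hta, htb, htc, htd]
    rw [mul_smul, mul_smul, hu' _ hm, smul_inv_smul]
  -- it inverts the stabiliser
  have hinvH : ∀ u ∈ H, t * u * t⁻¹ = u⁻¹ := fun u hu => by
    let τ : H →* H :=
      { toFun := fun x => ⟨t * x * t⁻¹, htH x x.2⟩
        map_one' := Subtype.ext (by simp)
        map_mul' := fun x y => Subtype.ext (by simp [mul_assoc]) }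
    have := inverted_of_fixed_trivial τ (fun x => Subtype.ext (conj_conj_of_invol htt (x : G)))
      (fun x hx => Subtype.ext (hCH x x.2 (congrArg Subtype.val hx))) ⟨u, hu⟩
    exact congrArg Subtype.val this
  -- an element of order three, inverted by the transposition, fixing only `d` outside
  obtain ⟨w, hw3, hwperm, hwd, hwinv, hwfree⟩ : ∃ w : G, w * w * w = 1 ∧
      (∀ y, OfThree a b c y → OfThree a b c (w • y)) ∧ w • d = d ∧ t * w * t⁻¹ = w⁻¹ ∧
      ∀ x, ¬ OfThree a b c x → x ≠ d → w • x ≠ x := by
    by_cases h3 : 3 ∣ Nat.card H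
    · have : Fact (Nat.Prime 3) := ⟨Nat.prime_three⟩
      obtain ⟨w, hw⟩ := exists_prime_orderOf_dvd_card' 3 h3
      have hw' := (hH _).mp w.2
      refine ⟨w, ?_, fun y hy => by rw [hw' y (by rcases hy with rfl | rfl | rfl <;> simp)]; exact hy,
        hw' d (by simp), hinvH w w.2, fun x hx hxd e' => ?_⟩
      · have := pow_orderOf_eq_one w
        rw [hw, pow_succ, sq] at this
        exact congrArg Subtype.val this
      · have : (w : G) = 1 := hs.eq_one [a, b, c, d, x] (by
          simp only [OfThree, not_or] at hx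
          simp only [List.nodup_cons, List.mem_cons, List.not_mem_nil, or_false, not_or] at h ⊢
          tauto) (by simp) fun y hy => by
            simp only [List.mem_cons, List.not_mem_nil, or_false] at hy hw'
            rcases hy with rfl | rfl | rfl | rfl | rfl
            exacts [hw' _ (by simp), hw' _ (by simp), hw' _ (by simp), hw' _ (by simp), e']
        rw [show w = 1 from Subtype.ext this, orderOf_one] at hw
        norm_num at hw
    · obtain ⟨v, hv⟩ : ∃ v, v = t * t' := ⟨_, rfl⟩
      obtain ⟨h₀, hh₀⟩ : ∃ h₀, h₀ = Nat.card H := ⟨_, rfl⟩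
      rw [← hh₀] at hodd h1 h3
      obtain ⟨w, hw'⟩ : ∃ w, w = v ^ h₀ := ⟨_, rfl⟩
      have va : v • a = b := by rw [hv, mul_smul, t'a, hta]
      have vb : v • b = c := by rw [hv, mul_smul, t'b, htc]
      have vc : v • c = a := by rw [hv, mul_smul, t'c, htb]
      have vd : v • d = d := by rw [hv, mul_smul, t'd, htd]
      have hv3 : v ^ 3 ∈ H := (hH _).mpr fun x hx => by
        simp only [List.mem_cons, List.not_mem_nil, or_false] at hx
        rcases hx with rfl | rfl | rfl | rfl <;> simp [pow_succ, mul_smul, va, vb, vc, vd]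
      have hw3 : w * w * w = 1 := by
        have := congrArg Subtype.val (pow_card_eq_one' (G := H) (x := ⟨v ^ 3, hv3⟩))
        simp only [SubmonoidClass.coe_pow, OneMemClass.coe_one, ← hh₀, ← pow_mul] at this
        rw [hw', ← pow_add, ← pow_add, show h₀ + h₀ + h₀ = 3 * h₀ by ring, this]
      have hvt : t * v * t⁻¹ = v⁻¹ := by
        rw [hv, mul_inv_rev, show t'⁻¹ = t' from inv_eq_of_mul_eq_one_right t't', hti,
          show t * (t * t') * t = (t * t) * t' * t by group, htt, one_mul]
      have hwinv : t * w * t⁻¹ = w⁻¹ := by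
        rw [hw', ← conj_pow, hvt, inv_pow]
      have hperm_v : ∀ y, OfThree a b c y → OfThree a b c (v • y) := fun y hy => by
        rcases hy with rfl | rfl | rfl
        · exact Or.inr (Or.inl va)
        · exact Or.inr (Or.inr vb)
        · exact Or.inl vc
      have hperm_w : ∀ j : ℕ, ∀ y, OfThree a b c y → OfThree a b c ((v ^ j) • y) := fun j => by
        induction j with
        | zero => simp
        | succ j ih => intro y hy; rw [pow_succ', mul_smul]; exact hperm_v _ (ih y hy)
      have hwd : w • d = d := by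
        have : ∀ j : ℕ, (v ^ j) • d = d := fun j => by
          induction j with
          | zero => simp
          | succ j ih => rw [pow_succ', mul_smul, ih, vd]
        rw [hw']; exact this _
      -- it commutes with the stabiliser
      have hei : ∀ x ∈ [a, b, c, d], e • x ∈ [a, b, c, d] := fun x hx => by
        simp only [List.mem_cons, List.not_mem_nil, or_false] at hx
        rcases hx with rfl | rfl | rfl | rfl <;> simp [ea, eb, ec, ed]
      have hinv' : ∀ u ∈ H, t' * u * t'⁻¹ = u⁻¹ := fun u hu => by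
        have hu2 : e⁻¹ * u * e ∈ H := (hH _).mpr fun x hx => by
          rw [mul_smul, mul_smul, (hH u).mp hu _ (hei x hx), inv_smul_smul]
        have := hinvH _ hu2
        rw [ht'e, show e * t * e⁻¹ * u * (e * t * e⁻¹)⁻¹ = e * (t * (e⁻¹ * u * e) * t⁻¹) * e⁻¹ by group,
          this]
        group
      have hcen : ∀ u ∈ H, w * u = u * w := fun u hu => by
        have h2 : v * u * v⁻¹ = u := by
          rw [hv, show t * t' * u * (t * t')⁻¹ = t * (t' * u * t'⁻¹) * t⁻¹ by group, hinv' u hu,
            hinvH _ (H.inv_mem hu), inv_inv]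
        rw [hw']
        exact (Commute.pow_left (mul_inv_eq_iff_eq_mul.mp h2) h₀).eq
      refine ⟨w, hw3, hw' ▸ hperm_w h₀, hwd, hwinv, fun x hx hxd e' => ?_⟩
      have hw1 : w ≠ 1 := fun e1 => hne.1 (by
        have hva : ∀ j : ℕ, (v ^ (3 * j)) • a = a := fun j => by
          induction j with
          | zero => simp
          | succ j ih => rw [mul_add_one, pow_add, mul_smul, show v ^ 3 • a = a from
              (hH _).mp hv3 a (by simp), ih]
        have h4 : (w • a = b) ∨ (w • a = c) := by
          rcases (show h₀ % 3 = 1 ∨ h₀ % 3 = 2 by omega) with r | r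
          · left
            rw [hw', show h₀ = 1 + 3 * (h₀ / 3) by omega, pow_add, mul_smul, hva, pow_one, va]
          · right
            rw [hw', show h₀ = 2 + 3 * (h₀ / 3) by omega, pow_add, mul_smul, hva, pow_two, mul_smul, va,
              vb]
        rw [e1, one_smul] at h4
        rcases h4 with e2 | e2
        · exact e2
        · exact absurd e2 hne.2.1)
      have h5 : 5 ≤ h₀ := by
        obtain ⟨j, hj⟩ := hodd
        omega
      have hsub := hs.card_fixed_le hw1 {d} fun y hy => by rw [Finset.mem_singleton.mp hy]; exact hwd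
      have := Fintype.ofFinite H
      have hinj : h₀ ≤ (Finset.univ.filter fun y => w • y = y ∧ y ∉ ({d} : Finset α)).card := by
        rw [hh₀, Nat.card_eq_fintype_card, ← Finset.card_univ]
        refine Finset.card_le_card_of_injOn (fun u => (u : G) • x) (fun u _ => ?_) fun u _ u' _ h' => ?_
        · simp only [Finset.coe_filter, Finset.mem_univ, true_and, Set.mem_ofPred_eq,
            Finset.mem_singleton]
          refine ⟨by rw [← mul_smul, hcen u u.2, mul_smul, e'], fun e2 => hxd ?_⟩
          exact MulAction.injective (u : G) (e2.trans ((hH _).mp u.2 d (by simp)).symm)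
        · have h6 : ((u' : G)⁻¹ * u) • x = x := by rw [mul_smul, show (u : G) • x = (u' : G) • x from h',
            inv_smul_smul]
          have h7 := (hH _).mp (H.mul_mem (H.inv_mem u'.2) u.2)
          refine Subtype.ext (eq_of_inv_mul_eq_one (hs.eq_one [a, b, c, d, x] (by
            simp only [OfThree, not_or] at hx
            simp only [List.nodup_cons, List.mem_cons, List.not_mem_nil, or_false, not_or] at h ⊢
            tauto) (by simp) fun y hy => ?_)).symm
          simp only [List.mem_cons, List.not_mem_nil, or_false] at hy h7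
          rcases hy with rfl | rfl | rfl | rfl | rfl
          exacts [h7 _ (by simp), h7 _ (by simp), h7 _ (by simp), h7 _ (by simp), h6]
      omega
  have hlist : ∀ y ∈ [c], OfThree a b c y ∧ t • y = y := fun y hy => by
    simp only [List.mem_cons, List.not_mem_nil, or_false] at hy
    subst hy
    exact ⟨Or.inr (Or.inr rfl), htc⟩
  have b1 := hK.card_fixed_le hs hd ht1 htd (hg := htperm) (List.nodup_singleton c) hlist
  have hw2 : w⁻¹ = w * w := inv_eq_of_mul_eq_one_left hw3
  have hle := card_le_sq (hK.conjHom t htperm) (hK.conjHom w hwperm)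
    (fun k => Subtype.ext (conj_conj_of_invol htt (k : G)))
    (fun k => Subtype.ext (by
      simp only [KerData.coe_conjHom]
      rw [show w * (w * (w * k * w⁻¹) * w⁻¹) * w⁻¹ = (w * w * w) * k * (w * w * w)⁻¹ by group, hw3]
      group))
    (fun k hk => by
      refine Subtype.ext (hK.free k k.2 d hd ?_)
      by_contra hne'
      exact hwfree _ (hK.not_ofThree hd k.2) hne' (hK.fixed_smul hwd hk))
    (fun k => Subtype.ext (by
      simp only [KerData.coe_conjHom]
      rw [show t * (w * k * w⁻¹) * t⁻¹ = (t * w * t⁻¹) * (t * k * t⁻¹) * (t * w * t⁻¹)⁻¹ by group,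
        hwinv.trans hw2]
      group))
  have := hK.card_le hd
  simp only [List.length_singleton] at b1
  have := hle.trans (Nat.mul_le_mul (show _ ≤ 3 by omega) (show _ ≤ 3 by omega))
  omega

/-- Four-transitive actions where only the identity fixes five points have degree at most 12. -/
theorem degree_le_twelve (ht : IsMultiplyPretransitive G α 4) (hs : Semifix G α 4) :
    Fintype.card α ≤ 12 := by
  classical
  by_contra! hn
  obtain ⟨x⟩ : Nonempty (Fin 4 ↪ α) := Function.Embedding.nonempty_of_card_le (by simp; omega)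
  by_cases h1 : Nat.card (stabilizer G x) = 1
  · have := SharplyTransitive.jordan4 ht (fun y => Subgroup.card_eq_one.mp
      (by rw [card_stabilizer_eq ht (by omega) y x]; exact h1)) (by omega)
    omega
  have h : [x 0, x 1, x 2, x 3].Nodup := by simp [List.nodup_cons]
  have hH : ∀ u, u ∈ stabilizer G x ↔ ∀ y ∈ [x 0, x 1, x 2, x 3], u • y = y := fun u => by
    rw [mem_stabilizer_iff]
    constructor
    · intro hu y hy
      simp only [List.mem_cons, List.not_mem_nil, or_false] at hy
      rcases hy with rfl | rfl | rfl | rfl <;> exact DFunLike.congr_fun hu _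
    · intro hu
      ext i
      fin_cases i <;> exact hu _ (by simp)
  rcases Nat.even_or_odd (Nat.card (stabilizer G x)) with he | ho
  · have : Fact (Nat.Prime 2) := ⟨Nat.prime_two⟩
    obtain ⟨z, hz⟩ := exists_prime_orderOf_dvd_card' 2 (even_iff_two_dvd.mp he)
    have hzz : z * z = 1 := by rw [← sq, ← hz, pow_orderOf_eq_one]
    have := card_le_of_even ht hs (by omega) h (z := (z : G))
      (fun e => by rw [show z = 1 from Subtype.ext e, orderOf_one] at hz; norm_num at hz)
      (congrArg Subtype.val hzz) ((hH _).mp z.2)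
    omega
  · have := card_le_of_odd ht hs h (stabilizer G x) hH ho
      (by have := Nat.card_pos (α := stabilizer G x); omega)
    omega

end Cfsg.Agent.PermGroups.LW
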