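/-
Multiply transitive groups in which only the identity fixes more points than the transitivity.
-/
import Cfsg.Agent.PermGroups.LW.FourTrans
import Cfsg.Agent.S0713
import Cfsg.Agent.S0710

set_option autoImplicit false
set_option linter.style.haveILetI false
set_option maxHeartbeats 1000000

namespace Cfsg.Agent.PermGroups.LW

open MulAction SubMulAction

/-- A group acting so that only the identity fixes a point has order dividing the degree. -/
theorem card_dvd_of_semifix {G : Type*} [Group G] {α : Type*} [MulAction G α]
    (hs : Semifix G α 0) : Nat.card G ∣ Nat.card α := by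
  classical
  have h : ∀ b : α, stabilizer G b = ⊥ := fun b => (Subgroup.eq_bot_iff_forall _).mpr fun g hg =>
    hs g {b} (by simp) fun x hx => by rw [Finset.mem_singleton.mp hx]; exact hg
  rw [Nat.card_congr (selfEquivOrbitsQuotientProd h), Nat.card_prod]
  exact dvd_mul_left _ _

/-- Transitivity increases by one when the stabilisers of `k` points are transitive. -/
theorem succ_transitive {G : Type*} [Group G] {α : Type*} [MulAction G α] [DecidableEq α] {k : ℕ}
    (ht : IsMultiplyPretransitive G α k)
    (h : ∀ s : Finset α, s.card = k →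
      IsPretransitive (fixingSubgroup G (s : Set α)) (ofFixingSubgroup G (s : Set α))) :
    IsMultiplyPretransitive G α (k + 1) := by
  refine isMultiplyPretransitive_iff.mpr fun x y => ?_
  obtain ⟨g, hg⟩ := exists_map ht (a := fun i => x (Fin.castSucc i)) (b := fun i => y (Fin.castSucc i))
    (x.injective.comp (Fin.castSucc_injective k)) (y.injective.comp (Fin.castSucc_injective k))
  set s := Finset.univ.image fun i : Fin k => y (Fin.castSucc i) with hsdef
  have hcard : s.card = k := by
    rw [hsdef, Finset.card_image_of_injective (f := fun i => y (Fin.castSucc i)) _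
      (y.injective.comp (Fin.castSucc_injective k)), Finset.card_univ, Fintype.card_fin]
  have h1 : g • x (Fin.last k) ∈ ofFixingSubgroup G (s : Set α) := fun hm => by
    obtain ⟨i, -, hi⟩ := Finset.mem_image.mp (Finset.mem_coe.mp hm)
    rw [← hg i] at hi
    exact Fin.castSucc_ne_last i (x.injective (MulAction.injective g hi))
  have h2 : y (Fin.last k) ∈ ofFixingSubgroup G (s : Set α) := fun hm => by
    obtain ⟨i, -, hi⟩ := Finset.mem_image.mp (Finset.mem_coe.mp hm)
    exact Fin.castSucc_ne_last i (y.injective hi)
  obtain ⟨u, hu⟩ := (h s hcard).exists_smul_eq ⟨_, h1⟩ ⟨_, h2⟩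
  refine ⟨(u : G) * g, Function.Embedding.ext fun i => ?_⟩
  change ((u : G) * g) • x i = y i
  rw [mul_smul]
  refine Fin.lastCases ?_ (fun j => ?_) i
  · exact congrArg Subtype.val hu
  · rw [hg j]
    exact u.2 ⟨y (Fin.castSucc j), Finset.mem_coe.mpr (Finset.mem_image_of_mem _ (Finset.mem_univ j))⟩

variable {α : Type*} [Fintype α] [DecidableEq α] {G : Subgroup (Equiv.Perm α)} {k : ℕ}

theorem fixing_faithful (s : Set α) :
    FaithfulSMul (fixingSubgroup G s) (ofFixingSubgroup G s) := by
  refine ⟨fun {g h} e => Subtype.ext (Subtype.ext (Equiv.ext fun x => ?_))⟩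
  by_cases hx : x ∈ s
  · exact (g.2 ⟨x, hx⟩).trans (h.2 ⟨x, hx⟩).symm
  · exact congrArg Subtype.val (e ⟨x, hx⟩)

/-- A group containing an element of prime order moving few points contains the alternating group. -/
theorem alternating_le_of_prime (ht : IsMultiplyPretransitive G α 2) (q : ℕ) (hq : q.Prime)
    (hn : 5 ≤ Fintype.card α) (hqn : q + 3 ≤ Fintype.card α) (s : Finset α)
    (hs : Fintype.card α < s.card + 2 * q) (hdvd : q ∣ Nat.card (fixingSubgroup G (s : Set α))) :
    alternatingGroup α ≤ G := by
  classical
  have := Fact.mk hq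
  obtain ⟨g, hg⟩ := exists_prime_orderOf_dvd_card' q hdvd
  set σ : Equiv.Perm α := ((g : G) : Equiv.Perm α)
  have ho : orderOf σ = q := by rw [← hg, ← Subgroup.orderOf_coe g, ← Subgroup.orderOf_coe (g : G)]
  have hsupp : σ.support.card < 2 * orderOf σ := by
    have h1 : σ.support ⊆ sᶜ := fun x hx => Finset.mem_compl.mpr fun hxs =>
      Equiv.Perm.mem_support.mp hx (g.2 ⟨x, hxs⟩)
    have h2 := Finset.card_le_card h1
    rw [Finset.card_compl] at h2
    have := s.card_le_univ
    omega
  have hc := Equiv.Perm.isCycle_of_prime_order (ho.symm ▸ hq) hsupp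
  have := ht
  exact S0713.result G (isPreprimitive_of_is_two_pretransitive ht) hq hn hqn hc
    (by rw [← hc.orderOf, ho]) (g : G).2

/-- The outcome of the analysis of groups where only the identity fixes more than `k` points. -/
theorem small_cases (hk : 4 ≤ k) (hkn : k < Fintype.card α) (ht : IsMultiplyPretransitive G α k)
    (hs : Semifix G α k) :
    alternatingGroup α ≤ G ∨ IsMultiplyPretransitive G α (k + 1) ∨
      ((k = 4 ∨ k = 5) ∧ Fintype.card α = k + 7 ∧
        ∀ s : Finset α, s.card = k → fixingSubgroup G (s : Set α) = ⊥) := by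
  classical
  obtain ⟨r, -, hr⟩ := Finset.exists_subset_card_eq (s := (Finset.univ : Finset α)) (n := k - 4)
    (by rw [Finset.card_univ]; omega)
  -- the four-transitive stabiliser
  have ht4 := ofFixing_transitive ht r (m := 4) (by omega)
  have hs4 : Semifix (fixingSubgroup G (r : Set α)) (ofFixingSubgroup G (r : Set α)) 4 := by
    have := hs.ofFixing r
    rwa [hr, show k - (k - 4) = 4 by omega] at this
  have hcard4 : Fintype.card (ofFixingSubgroup G (r : Set α)) = Fintype.card α - (k - 4) := by
    rw [← Nat.card_eq_fintype_card, card_ofFixing, hr]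
  have h12 := degree_le_twelve ht4 hs4
  rw [hcard4] at h12
  -- the stabiliser of k points
  obtain ⟨s, -, hsk⟩ := Finset.exists_subset_card_eq (s := (Finset.univ : Finset α)) (n := k)
    (by rw [Finset.card_univ]; omega)
  set h := Nat.card (fixingSubgroup G (s : Set α)) with hh
  have hcardG : Nat.card G = (Fintype.card α).descFactorial k * h := by
    rw [card_fixing ht s hsk.le hkn.le, hsk]
  have hall : ∀ t : Finset α, t.card = k → Nat.card (fixingSubgroup G (t : Set α)) = h := fun t htk => by
    have h1 := card_fixing ht t htk.le hkn.le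
    rw [hcardG, htk] at h1
    exact (Nat.eq_of_mul_eq_mul_left (Nat.descFactorial_pos.mpr hkn.le) h1).symm
  have hdvd : h ∣ Fintype.card α - k := by
    have h1 := hs.ofFixing s
    rw [hsk, Nat.sub_self] at h1
    have h2 := card_dvd_of_semifix h1
    rwa [card_ofFixing, hsk] at h2
  have hpos : 0 < h := Nat.card_pos
  have ht2 : IsMultiplyPretransitive G α 2 :=
    haveI := ht
    isMultiplyPretransitive_of_le (n := k) (by omega) (by rw [Nat.card_eq_fintype_card]; omega)
  clear_value h
  set n := Fintype.card α with hn
  -- the order of the stabiliser of `k - 4` points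
  have hcardR : Nat.card (fixingSubgroup G (r : Set α)) = (n - (k - 4)).descFactorial 4 * h := by
    have h1 := card_fixing ht r (by omega) hkn.le
    rw [hcardG, hr, show k = (k - 4) + 4 by omega, ← Nat.descFactorial_mul_descFactorial
      (show k - 4 ≤ k - 4 + 4 by omega), Nat.add_sub_cancel_left] at h1
    rw [show k - 4 + 4 - 4 = k - 4 by omega] at h1
    refine (Nat.eq_of_mul_eq_mul_left (Nat.descFactorial_pos.mpr (show k - 4 ≤ n by omega)) ?_).symm
    rw [← h1]
    ring
  have hprime : ∀ q : ℕ, q.Prime → q + 3 ≤ n → n - (k - 4) < 2 * q →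
      q ∣ (n - (k - 4)).descFactorial 4 * h → alternatingGroup α ≤ G := fun q hq hqn hlt hd =>
    alternating_le_of_prime ht2 q hq (by omega) hqn r (by omega) (hcardR ▸ hd)
  have hh1 : h = 1 → n - (k - 4) ≤ 6 ∨ n - (k - 4) = 11 := fun e => by
    by_contra hne
    push Not at hne
    refine hne.2 ?_
    rw [← hcard4]
    refine SharplyTransitive.jordan4 ht4 (fun x => ?_) (by rw [hcard4]; omega)
    have h1 := card_eq ht4 x
    rw [hcardR, hcard4, e, mul_one] at h1
    exact Subgroup.card_eq_one.mp
      ((Nat.mul_eq_left (Nat.descFactorial_pos.mpr (by omega)).ne').mp h1.symm)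
  obtain ⟨j, hj⟩ : ∃ j, n = k + j := ⟨n - k, by omega⟩
  have hj8 : j ≤ 8 := by omega
  have hj1 : 1 ≤ j := by omega
  rw [show n - k = j by omega] at hdvd
  rw [show n - (k - 4) = j + 4 by omega] at hprime hh1 hcardR
  interval_cases j
  · -- n = k + 1
    left
    refine IsMultiplyPretransitive.alternatingGroup_le α G ?_
    haveI := ht
    exact isMultiplyPretransitive_of_le (n := k) (by rw [Nat.card_eq_fintype_card]; omega)
      (by rw [Nat.card_eq_fintype_card]; omega)
  · -- n = k + 2
    left
    refine IsMultiplyPretransitive.alternatingGroup_le α G ?_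
    haveI := ht
    exact isMultiplyPretransitive_of_le (n := k) (by rw [Nat.card_eq_fintype_card]; omega)
      (by rw [Nat.card_eq_fintype_card]; omega)
  · -- n = k + 3
    left
    have h3 : h = 3 := by
      rcases (Nat.dvd_prime Nat.prime_three).mp hdvd with e | e
      · have := hh1 e; omega
      · exact e
    refine Equiv.Perm.alternatingGroup_le_of_index_le_two ?_
    have h1 := G.card_mul_index
    rw [hcardG, h3, Nat.card_perm, Nat.card_eq_fintype_card, ← hn, hj] at h1
    have h2 : (k + 3).factorial = (k + 3).descFactorial k * 6 := by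
      rw [Nat.descFactorial_eq_factorial_mul_choose, ← Nat.choose_mul_factorial_mul_factorial
        (show k ≤ k + 3 by omega), show k + 3 - k = 3 by omega, show Nat.factorial 3 = 6 from rfl]
      ring
    rw [h2, mul_assoc] at h1
    have h4 : 3 * G.index = 6 :=
      Nat.eq_of_mul_eq_mul_left (Nat.descFactorial_pos.mpr (by omega)) h1
    omega
  · -- n = k + 4
    exact Or.inl (hprime 5 (by norm_num) (by omega) (by norm_num)
      (dvd_mul_of_dvd_left (by decide) _))
  · -- n = k + 5
    refine Or.inl (hprime 5 (by norm_num) (by omega) (by norm_num) (dvd_mul_of_dvd_right ?_ _))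
    rcases (Nat.dvd_prime (by norm_num)).mp hdvd with e | e
    · have := hh1 e; omega
    · rw [e]
  · -- n = k + 6
    exact Or.inl (hprime 7 (by norm_num) (by omega) (by norm_num)
      (dvd_mul_of_dvd_left (by decide) _))
  · -- n = k + 7
    rcases (Nat.dvd_prime (by norm_num)).mp hdvd with e | e
    swap
    · exact Or.inl (hprime 7 (by norm_num) (by omega) (by norm_num) (dvd_mul_of_dvd_right (e ▸ dvd_rfl) _))
    refine Or.inr (Or.inr ⟨?_, hj, fun t htk => Subgroup.card_eq_one.mp ((hall t htk).trans e)⟩)
    by_contra hne
    push Not at hne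
    -- degree thirteen
    obtain ⟨u, -, hu⟩ := Finset.exists_subset_card_eq (s := (Finset.univ : Finset α)) (n := k - 6)
      (by rw [Finset.card_univ]; omega)
    have ht6 := ofFixing_transitive ht u (m := 6) (by omega)
    have hcardU : Nat.card (fixingSubgroup G (u : Set α)) = 13 * 12 * 11 * 10 * 9 * 8 := by
      have h1 := card_fixing ht u (by omega) hkn.le
      rw [hcardG, hu, e, mul_one, show k = (k - 6) + 6 by omega, ← Nat.descFactorial_mul_descFactorial
        (show k - 6 ≤ k - 6 + 6 by omega), Nat.add_sub_cancel_left] at h1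
      rw [show k - 6 + 6 - 6 = k - 6 by omega, ← hn, show n - (k - 6) = 13 by omega] at h1
      refine (Nat.eq_of_mul_eq_mul_left (Nat.descFactorial_pos.mpr (show k - 6 ≤ n by omega)) ?_).symm
      rw [← h1, show Nat.descFactorial 13 6 = 13 * 12 * 11 * 10 * 9 * 8 from rfl]
      ring
    haveI : IsPretransitive (fixingSubgroup G (u : Set α)) (ofFixingSubgroup G (u : Set α)) := by
      rw [← is_one_pretransitive_iff]
      haveI := ht6
      exact isMultiplyPretransitive_of_le (n := 6) (by norm_num)
        (by rw [card_ofFixing]; omega)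
    haveI := fixing_faithful (G := G) (u : Set α)
    set φ := toPermHom (fixingSubgroup G (u : Set α)) (ofFixingSubgroup G (u : Set α))
    haveI : IsPretransitive φ.range (ofFixingSubgroup G (u : Set α)) := ⟨fun x y => by
      obtain ⟨g, hg⟩ := exists_smul_eq (fixingSubgroup G (u : Set α)) x y
      exact ⟨⟨φ g, g, rfl⟩, hg⟩⟩
    refine S0710.result (by rw [← Nat.card_eq_fintype_card, card_ofFixing]; omega) φ.range ?_
    rw [← hcardU]
    exact (Nat.card_congr (MonoidHom.ofInjective (f := φ) (fun a b e => by
      exact FaithfulSMul.eq_of_smul_eq_smul (α := ofFixingSubgroup G (u : Set α)) fun x =>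
        Equiv.ext_iff.mp e x)).toEquiv).symm
  · -- n = k + 8
    have h8 : h = 8 ∨ h = 1 ∨ h = 2 ∨ h = 4 := by
      have := Nat.le_of_dvd (by norm_num) hdvd
      revert hdvd
      interval_cases h <;> norm_num
    rcases h8 with e | h8
    · refine Or.inr (Or.inl (succ_transitive ht fun t htk => ?_))
      have h1 := hs.ofFixing t
      rw [htk, Nat.sub_self] at h1
      refine ⟨fun x y => ?_⟩
      have hinj : Function.Injective fun g : fixingSubgroup G (t : Set α) => g • x := fun g g' e' => by
        refine (eq_of_inv_mul_eq_one (h1 _ {x} (by simp) fun z hz => ?_)).symm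
        rw [Finset.mem_singleton.mp hz, mul_smul, show g • x = g' • x from e', inv_smul_smul]
      have hb := (Nat.bijective_iff_injective_and_card _).mpr ⟨hinj, by
        rw [hall t htk, e, card_ofFixing, htk]; omega⟩
      exact hb.2 y
    · exfalso
      rcases h8 with e | e | e
      · have := hh1 e; omega
      all_goals
        haveI := fixing_faithful (G := G) (r : Set α)
        refine no_prime_succ_degree (G := fixingSubgroup G (r : Set α))
          (α := ofFixingSubgroup G (r : Set α)) ?_ 11 (90 * h) (by norm_num) (by rw [hcard4]; omega)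
          (by rw [e]; norm_num) (by rw [e]; unfold NoIndex; decide +kernel) ?_
        · haveI := ht4
          exact isMultiplyPretransitive_of_le (n := 4) (by norm_num) (by rw [Nat.card_eq_fintype_card, hcard4]; omega)
        · rw [hcardR, e]
          norm_num [Nat.descFactorial_succ]

end Cfsg.Agent.PermGroups.LW
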