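/-
Groups that are (k-2)-transitive, (k-1)-homogeneous and k-homogeneous but not (k-1)-transitive.
-/
import Cfsg.Agent.PermGroups.LW.Small
import Cfsg.Agent.S0744
import Cfsg.Agent.S0735
import Cfsg.Agent.S0736

set_option autoImplicit false
set_option linter.style.haveILetI false
set_option maxHeartbeats 1000000

namespace Cfsg.Agent.PermGroups.LW

open MulAction SubMulAction
open scoped Pointwise

variable {α : Type*} [Fintype α] [DecidableEq α] {G : Subgroup (Equiv.Perm α)} {k : ℕ}

/-- In a homogeneous action the pointwise stabilisers of sets of one size have one order. -/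
theorem card_fixing_homog {j : ℕ} (h : IsPretransitive G (Set.powersetCard α j)) {s t : Finset α}
    (hs : s.card = j) (ht : t.card = j) :
    Nat.card (fixingSubgroup G (s : Set α)) = Nat.card (fixingSubgroup G (t : Set α)) := by
  obtain ⟨g, hg⟩ := h.exists_smul_eq ⟨s, hs⟩ ⟨t, ht⟩
  have e : g • (s : Set α) = (t : Set α) := by
    rw [← Finset.coe_smul_finset]
    exact congrArg _ (congrArg Subtype.val hg)
  exact Nat.card_congr (fixingSubgroupEquivFixingSubgroup e).toEquiv

/-- The data forced on such a group. -/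
theorem numbers (hk : 3 ≤ k) (hkn : k ≤ Fintype.card α)
    (ht : IsMultiplyPretransitive G α (k - 2)) (hnt : ¬ IsMultiplyPretransitive G α (k - 1))
    (hh1 : IsPretransitive G (Set.powersetCard α (k - 1))) (hh : IsPretransitive G (Set.powersetCard α k)) :
    Semifix G α (k - 2) ∧ ∃ p h : ℕ, Nat.card G = (Fintype.card α).choose (k - 1) * p ∧
      Nat.card G = (Fintype.card α).descFactorial (k - 2) * h ∧ h ∣ Fintype.card α - (k - 2) ∧
      p ∣ (k - 1).factorial ∧ p < (k - 1).factorial ∧ (Fintype.card α - (k - 1)) ∣ k * p ∧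
      (Fintype.card α - (k - 2)) * p = (k - 1).factorial * h ∧
      ∀ Γ : Set.powersetCard α (k - 1), Nat.card (stabilizer G Γ) = p := by
  classical
  obtain ⟨s₀, -, hs₀⟩ := Finset.exists_subset_card_eq (s := (Finset.univ : Finset α)) (n := k - 1)
    (by rw [Finset.card_univ]; omega)
  obtain ⟨t₀, -, ht₀⟩ := Finset.exists_subset_card_eq (s := (Finset.univ : Finset α)) (n := k)
    (by rw [Finset.card_univ]; omega)
  -- pointwise stabilisers of (k-1)-sets are trivial
  have hl : Nat.card (fixingSubgroup G (s₀ : Set α)) = 1 := by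
    by_contra hne
    exact hnt (S0744.result G (by omega) hkn (Nat.card (fixingSubgroup G (s₀ : Set α)))
      (Nat.card (fixingSubgroup G (t₀ : Set α)))
      (by have := Nat.card_pos (α := fixingSubgroup G (s₀ : Set α)); omega)
      (fun s hs => card_fixing_homog hh1 hs hs₀) (fun s hs => card_fixing_homog hh hs ht₀))
  have hsf : Semifix G α (k - 2) := by
    intro g s hs hfix
    obtain ⟨s', hs', hs'k⟩ := Finset.exists_subset_card_eq (s := s) (n := k - 1) (by omega)
    have h1 := Subgroup.card_eq_one.mp ((card_fixing_homog hh1 hs'k hs₀).trans hl)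
    have : g ∈ fixingSubgroup G (s' : Set α) := by
      rw [mem_fixingSubgroup_iff]; exact fun x hx => hfix x (hs' hx)
    rwa [h1, Subgroup.mem_bot] at this
  -- setwise stabilisers
  have key : ∀ Γ : Set.powersetCard α (k - 1), Nat.card G = (Fintype.card α).choose (k - 1) *
      Nat.card (stabilizer G Γ) := fun Γ => by
    haveI := hh1
    rw [← (stabilizer G Γ).index_mul_card, index_stabilizer_of_transitive G Γ]
    congr 1
    rw [Set.powersetCard.card, Nat.card_eq_fintype_card]
  let Γ₀ : Set.powersetCard α (k - 1) := ⟨s₀, hs₀⟩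
  refine ⟨hsf, Nat.card (stabilizer G Γ₀), ?_⟩
  obtain ⟨r, -, hr⟩ := Finset.exists_subset_card_eq (s := (Finset.univ : Finset α)) (n := k - 2)
    (by rw [Finset.card_univ]; omega)
  refine ⟨Nat.card (fixingSubgroup G (r : Set α)), key Γ₀, ?_, ?_, ?_⟩
  · rw [card_fixing ht r hr.le (by omega), hr]
  · have h1 := hsf.ofFixing r
    rw [hr, Nat.sub_self] at h1
    have h2 := card_dvd_of_semifix h1
    rwa [card_ofFixing, hr] at h2
  -- the induced group on a (k-1)-set
  let res : stabilizer G Γ₀ →* Equiv.Perm ↥s₀ :=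
    { toFun := fun g => ((g : G) : Equiv.Perm α).subtypePerm fun x => by
        have e : (g : G) • s₀ = s₀ := congrArg Subtype.val g.2
        conv_lhs => rw [← e]
        exact Finset.smul_mem_smul_finset_iff (g : G)
      map_one' := Equiv.ext fun x => rfl
      map_mul' := fun a b => Equiv.ext fun x => rfl }
  have hres : ∀ (g : stabilizer G Γ₀) (x : ↥s₀), (res g x : α) = (g : G) • (x : α) := fun _ _ => rfl
  have hinj : Function.Injective res := (injective_iff_map_eq_one res).mpr fun g hg => by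
    refine Subtype.ext (hsf (g : G) s₀ (by omega) fun x hx => ?_)
    have := hres g ⟨x, hx⟩
    rw [hg] at this
    exact this.symm
  have hperm : Nat.card (Equiv.Perm ↥s₀) = (k - 1).factorial := by
    rw [Nat.card_perm, Nat.card_eq_fintype_card, Fintype.card_coe, hs₀]
  have hdvd : Nat.card (stabilizer G Γ₀) ∣ (k - 1).factorial :=
    hperm ▸ Subgroup.card_dvd_of_injective res hinj
  refine ⟨hdvd, lt_of_le_of_ne (Nat.le_of_dvd (Nat.factorial_pos _) hdvd) fun e => hnt ?_, ?_, ?_, fun Γ => ?_⟩
  · -- all permutations are induced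
    have hbij : Function.Bijective res :=
      (Nat.bijective_iff_injective_and_card res).mpr ⟨hinj, e.trans hperm.symm⟩
    refine isMultiplyPretransitive_iff.mpr fun x y => ?_
    have himg : ∀ z : Fin (k - 1) ↪ α, (Finset.univ.map z).card = k - 1 := fun z => by simp
    obtain ⟨g, hg⟩ := hh1.exists_smul_eq ⟨Finset.univ.map x, himg x⟩ Γ₀
    obtain ⟨g', hg'⟩ := hh1.exists_smul_eq ⟨Finset.univ.map y, himg y⟩ Γ₀
    have hmem : ∀ (z : Fin (k - 1) ↪ α) (u : G), u • (⟨Finset.univ.map z, himg z⟩ : Set.powersetCard α (k - 1)) = Γ₀ →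
        ∀ i, u • z i ∈ s₀ := fun z u hu i => by
      have e' : u • Finset.univ.map z = s₀ := congrArg Subtype.val hu
      rw [← e']
      exact Finset.smul_mem_smul_finset (Finset.mem_map_of_mem _ (Finset.mem_univ i))
    have hb : ∀ (z : Fin (k - 1) ↪ α) (u : G) (hu : ∀ i, u • z i ∈ s₀),
        Function.Bijective fun i => (⟨u • z i, hu i⟩ : ↥s₀) := fun z u hu =>
      (Nat.bijective_iff_injective_and_card _).mpr ⟨fun a b h => z.injective (MulAction.injective u
        (congrArg Subtype.val h)), by rw [Nat.card_eq_fintype_card, Nat.card_eq_fintype_card,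
          Fintype.card_fin, Fintype.card_coe, hs₀]⟩
    let ex := Equiv.ofBijective _ (hb x g (hmem x g hg))
    let ey := Equiv.ofBijective _ (hb y g' (hmem y g' hg'))
    obtain ⟨m, hm⟩ := hbij.2 (ex.symm.trans ey)
    refine ⟨g'⁻¹ * (m : G) * g, Function.Embedding.ext fun i => ?_⟩
    change (g'⁻¹ * (m : G) * g) • x i = y i
    rw [mul_smul, mul_smul, inv_smul_eq_iff]
    have h1 := hres m (ex i)
    rw [hm, Equiv.trans_apply, Equiv.symm_apply_apply] at h1
    exact h1.symm
  · -- divisibility from k-homogeneity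
    haveI := hh
    have h1 : (Fintype.card α).choose k ∣ Nat.card G := by
      have h2 := (stabilizer G (⟨t₀, ht₀⟩ : Set.powersetCard α k)).index_mul_card
      rw [index_stabilizer_of_transitive, Set.powersetCard.card, Nat.card_eq_fintype_card] at h2
      exact ⟨_, h2.symm⟩
    obtain ⟨c, hc⟩ := h1
    rw [key Γ₀] at hc
    have h2 := Nat.choose_succ_right_eq (Fintype.card α) (k - 1)
    rw [show k - 1 + 1 = k by omega] at h2
    refine ⟨c, Nat.eq_of_mul_eq_mul_left (Nat.choose_pos (show k - 1 ≤ Fintype.card α by omega)) ?_⟩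
    calc (Fintype.card α).choose (k - 1) * (k * Nat.card (stabilizer G Γ₀))
        = (Fintype.card α).choose (k - 1) * Nat.card (stabilizer G Γ₀) * k := by ring
      _ = (Fintype.card α).choose k * c * k := by rw [hc]
      _ = (Fintype.card α).choose k * k * c := by ring
      _ = (Fintype.card α).choose (k - 1) * ((Fintype.card α - (k - 1)) * c) := by rw [h2]; ring
  · have h1 := card_fixing ht r hr.le (by omega)
    rw [hr, key Γ₀] at h1
    refine Nat.eq_of_mul_eq_mul_left (Nat.descFactorial_pos.mpr (show k - 2 ≤ Fintype.card α by omega)) ?_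
    have h2 : (Fintype.card α - (k - 2)) * (Fintype.card α).descFactorial (k - 2) =
        (k - 1).factorial * (Fintype.card α).choose (k - 1) := by
      rw [← Nat.descFactorial_eq_factorial_mul_choose, show k - 1 = k - 2 + 1 by omega,
        Nat.descFactorial_succ]
    calc (Fintype.card α).descFactorial (k - 2) *
          ((Fintype.card α - (k - 2)) * Nat.card (stabilizer G Γ₀))
        = (Fintype.card α - (k - 2)) * (Fintype.card α).descFactorial (k - 2) *
            Nat.card (stabilizer G Γ₀) := by ring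
      _ = (k - 1).factorial * ((Fintype.card α).choose (k - 1) * Nat.card (stabilizer G Γ₀)) := by
            rw [h2]; ring
      _ = _ := by rw [h1]; ring
  · have h1 := key Γ
    rw [key Γ₀] at h1
    exact (Nat.eq_of_mul_eq_mul_left (Nat.choose_pos (show k - 1 ≤ Fintype.card α by omega)) h1).symm

theorem isPretransitive_of (ht : IsMultiplyPretransitive G α k) (hk : 1 ≤ k) (hkn : k ≤ Fintype.card α) :
    IsPretransitive G α := by
  rw [← is_one_pretransitive_iff]
  haveI := ht
  exact isMultiplyPretransitive_of_le (n := k) hk (by rwa [Nat.card_eq_fintype_card])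

/-- No such group of degree six and order sixty. -/
theorem no_sixty (hn : Fintype.card α = 6) (hG : Nat.card G = 60) (htr : IsPretransitive G α)
    (hp : ∀ Γ : Set.powersetCard α 3, Nat.card (stabilizer G Γ) = 3) : False := by
  classical
  obtain ⟨a⟩ : Nonempty α := Fintype.card_pos_iff.mp (by omega)
  have h1 := (stabilizer G a).index_mul_card
  rw [index_stabilizer_of_transitive G a, Nat.card_eq_fintype_card, hn, hG] at h1
  haveI : Fact (Nat.Prime 2) := ⟨Nat.prime_two⟩
  obtain ⟨t, ht⟩ := exists_prime_orderOf_dvd_card' (G := stabilizer G a) 2 (by omega)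
  have htt : (t : G) * t = 1 := by
    have := congrArg Subtype.val (pow_orderOf_eq_one t)
    rwa [ht, SubmonoidClass.coe_pow, sq] at this
  have ht1 : (t : G) ≠ 1 := fun e => by
    rw [show t = 1 from Subtype.ext e, orderOf_one] at ht; norm_num at ht
  obtain ⟨x, hx⟩ : ∃ x, (t : G) • x ≠ x := by
    by_contra! hc
    exact ht1 (Subtype.ext (Equiv.ext hc))
  have htt' : (t : G) • (t : G) • x = x := by rw [← mul_smul, htt, one_smul]
  have hxa : x ≠ a := fun e => hx (by rw [e]; exact t.2)
  have htxa : (t : G) • x ≠ a := fun e => hxa (by rw [← htt', e]; exact t.2)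
  have hc : ({a, x, (t : G) • x} : Finset α).card = 3 :=
    Finset.card_eq_three.mpr ⟨a, x, _, hxa.symm, htxa.symm, hx.symm, rfl⟩
  have hmem : (t : G) ∈ stabilizer G (⟨_, hc⟩ : Set.powersetCard α 3) := by
    refine Subtype.ext ?_
    show (t : G) • ({a, x, (t : G) • x} : Finset α) = _
    rw [Finset.smul_finset_insert, Finset.smul_finset_insert, Finset.smul_finset_singleton,
      show (t : G) • a = a from t.2, htt', Finset.pair_comm]
  have h3 := orderOf_dvd_natCard (⟨_, hmem⟩ : stabilizer G (⟨_, hc⟩ : Set.powersetCard α 3))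
  rw [hp, ← Subgroup.orderOf_coe, Subgroup.coe_mk, Subgroup.orderOf_coe, ht] at h3
  norm_num at h3

/-- No sharply three transitive group of degree seven. -/
theorem no_two_ten (hn : Fintype.card α = 7) (hG : Nat.card G = 210)
    (ht : IsMultiplyPretransitive G α 3) (hs : Semifix G α 3) : False := by
  classical
  obtain ⟨r, -, hr⟩ := Finset.exists_subset_card_eq (s := (Finset.univ : Finset α)) (n := 3)
    (by rw [Finset.card_univ]; omega)
  have hsharp : ∀ t : Finset α, t.card = 3 → fixingSubgroup G (t : Set α) = ⊥ := fun t htc => by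
    have h1 := card_fixing ht t htc.le (by omega)
    rw [hG, htc, hn, show Nat.descFactorial 7 3 = 210 from rfl] at h1
    exact Subgroup.card_eq_one.mp (by omega)
  obtain ⟨a⟩ : Nonempty α := Fintype.card_pos_iff.mp (by omega)
  haveI := isPretransitive_of ht (by norm_num) (by omega)
  have ht2 : IsMultiplyPretransitive (stabilizer G a) (ofStabilizer G a) 2 :=
    ofStabilizer.isMultiplyPretransitive.mp ht
  haveI := isPretransitive_of_is_two_pretransitive (G := stabilizer G a) (α := ofStabilizer G a) (h2 := ht2)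
  obtain ⟨b, hb⟩ := Fintype.exists_ne_of_one_lt_card (show 1 < Fintype.card α by omega) a
  obtain ⟨K, -, hmem, hreg, htr, hK⟩ := exists_regular_kernel (N := stabilizer G a) (X := ofStabilizer G a)
    (fun n x y hxy hx hy => Subtype.ext (by
      have h3 : ({a, (x : α), (y : α)} : Finset α).card = 3 :=
        Finset.card_eq_three.mpr ⟨a, x, y, Ne.symm x.2, Ne.symm y.2, fun e => hxy (Subtype.ext e), rfl⟩
      have : (n : G) ∈ fixingSubgroup G (({a, (x : α), (y : α)} : Finset α) : Set α) := by
        rw [mem_fixingSubgroup_iff]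
        intro z hz
        simp only [Finset.coe_insert, Finset.coe_singleton, Set.mem_insert_iff,
          Set.mem_singleton_iff] at hz
        rcases hz with rfl | rfl | rfl
        exacts [n.2, congrArg Subtype.val hx, congrArg Subtype.val hy]
      rw [hsharp _ h3, Subgroup.mem_bot] at this
      exact this)) ⟨b, hb⟩
  rw [nat_card_ofStabilizer_eq G a, Nat.card_eq_fintype_card (α := α), hn] at hK
  haveI : Fact (Nat.Prime 2) := ⟨Nat.prime_two⟩
  haveI : Fact (Nat.Prime 3) := ⟨Nat.prime_three⟩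
  obtain ⟨u, hu⟩ := exists_prime_orderOf_dvd_card' (G := K) 2 (by rw [hK]; norm_num)
  obtain ⟨v, hv⟩ := exists_prime_orderOf_dvd_card' (G := K) 3 (by rw [hK]; norm_num)
  set x : ofStabilizer G a := ⟨b, hb⟩
  have hfree : ∀ w : K, orderOf w ≠ 1 → w • x ≠ x := fun w hw e => hw (orderOf_eq_one_iff.mpr
    (Subgroup.mem_bot.mp ((hreg x) ▸ (show w ∈ stabilizer K x from e))))
  obtain ⟨c, hc⟩ := exists_map ht2 (a := ![x, u • x]) (b := ![x, v • x])
    (fun i j h => by
      have := hfree u (by omega)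
      fin_cases i <;> fin_cases j <;> first | rfl | exact absurd h.symm this | exact absurd h this)
    (fun i j h => by
      have := hfree v (by omega)
      fin_cases i <;> fin_cases j <;> first | rfl | exact absurd h.symm this | exact absurd h this)
  have hcx : c • x = x := hc 0
  have hcu : c • (u • x) = v • x := hc 1
  have hin : c * (u : stabilizer G a) * c⁻¹ ∈ K := by
    rcases (hmem _).mp u.2 with h | h
    · rw [h]; simp
    · refine (hmem _).mpr (Or.inr fun z hz => h (c⁻¹ • z) ?_)
      rw [mul_smul, mul_smul] at hz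
      exact eq_inv_smul_iff.mpr hz
  have heq : (⟨_, hin⟩ : K) = v := smul_inj_of_regular (hreg x) (show
      (c * (u : stabilizer G a) * c⁻¹) • x = (v : stabilizer G a) • x by
    rw [mul_smul, mul_smul, show c⁻¹ • x = x from inv_smul_eq_iff.mpr hcx.symm]; exact hcu)
  have h4 : orderOf (c * (u : stabilizer G a) * c⁻¹) = orderOf (v : stabilizer G a) :=
    congrArg orderOf (congrArg Subtype.val heq)
  rw [← MulAut.conj_apply, MulEquiv.orderOf_eq, Subgroup.orderOf_coe, Subgroup.orderOf_coe, hu, hv] at h4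
  norm_num at h4

theorem sq_mod_seven : ∀ i : Fin 7, (i : ℕ) * (i : ℕ) % 7 = 1 ∨ (i : ℕ) * (i : ℕ) % 7 = 6 →
    (i : ℕ) = 1 ∨ (i : ℕ) = 6 := by decide

/-- No three transitive group of degree nine and order 1008 with few fixed points. -/
theorem no_1008 (hn : Fintype.card α = 9) (hG : Nat.card G = 1008)
    (ht : IsMultiplyPretransitive G α 3) (hs : Semifix G α 3) : False := by
  classical
  obtain ⟨x₂⟩ : Nonempty (Fin 2 ↪ α) := Function.Embedding.nonempty_of_card_le (by simp; omega)
  set a := x₂ 0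
  set b := x₂ 1
  have hab : a ≠ b := by simp [a, b]
  have ht2 : IsMultiplyPretransitive G α 2 :=
    haveI := ht
    isMultiplyPretransitive_of_le (n := 3) (by norm_num) (by rw [Nat.card_eq_fintype_card]; omega)
  set F := fixingSubgroup G (({a, b} : Finset α) : Set α) with hF
  have hFm : ∀ u : G, u ∈ F ↔ u • a = a ∧ u • b = b := fun u => by
    rw [hF, mem_fixingSubgroup_iff]; simp
  have hFc : Nat.card F = 14 := by
    have h1 := card_fixing ht ({a, b} : Finset α) (by rw [Finset.card_pair hab]; norm_num) (by omega)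
    rw [hG, Finset.card_pair hab, hn, show Nat.descFactorial 9 2 = 72 from rfl] at h1
    rw [hF]
    omega
  haveI : Fact (Nat.Prime 7) := ⟨by norm_num⟩
  obtain ⟨s', hs'⟩ := exists_prime_orderOf_dvd_card' (G := F) 7 (by rw [hFc]; norm_num)
  set s : G := (s' : G)
  have hs7 : orderOf s = 7 := by rw [← hs']; exact Subgroup.orderOf_coe s'
  have hsF := (hFm s).mp s'.2
  set P := Subgroup.zpowers s' with hP
  have hPi : P.index = 2 := by
    have := P.card_mul_index
    rw [hP, Nat.card_zpowers, hs', hFc] at this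
    rw [hP]
    omega
  have hpow : ∀ u : F, u ^ 7 = 1 → ∃ i : ℕ, (u : G) = s ^ i := fun u hu => by
    have h1 : u ∈ P := by
      have h2 := P.inv_mem (P.pow_mem (Subgroup.sq_mem_of_index_two hPi u) 3)
      rwa [← pow_mul, show 2 * 3 = 6 from rfl, ← show u = (u ^ 6)⁻¹ by
        rw [eq_inv_iff_mul_eq_one, ← pow_succ', hu]] at h2
    obtain ⟨i, -, hi⟩ := Finset.mem_image.mp (by
      have := mem_zpowers_iff_mem_range_orderOf.mp h1; exact this)
    exact ⟨i, by rw [← hi]; rfl⟩
  have hfixpow : ∀ i : ℕ, (s ^ i) • a = a ∧ (s ^ i) • b = b := fun i =>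
    (hFm _).mp (F.pow_mem s'.2 i)
  -- the seven other points form one cycle
  have hfree : ∀ i : ℕ, i < 7 → i ≠ 0 → ∀ x, x ≠ a → x ≠ b → (s ^ i) • x ≠ x := by
    intro i hi hi0 x hxa hxb e
    have hsfix : s • x = x := by
      have key : ∀ i : Fin 7, (i : ℕ) ≠ 0 → ∃ m : Fin 7, (i : ℕ) * (m : ℕ) % 7 = 1 := by decide
      obtain ⟨m, hm⟩ := key ⟨i, hi⟩ hi0
      have h1 : ∀ j : ℕ, (s ^ i) ^ j • x = x := fun j => by
        induction j with
        | zero => simp
        | succ j ih => rw [pow_succ, mul_smul, e, ih]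
      have h2 := h1 m
      rw [← pow_mul, ← pow_mod_orderOf, hs7, hm, pow_one] at h2
      exact h2
    -- then four points are fixed
    set T := Finset.univ.filter fun z : α => s • z = z
    have hT : 9 ≡ T.card [MOD 7] := by
      have hP7 : IsPGroup 7 (Subgroup.zpowers s) := IsPGroup.of_card (n := 1)
        (by rw [Nat.card_zpowers, hs7, pow_one])
      have h2 := hP7.card_modEq_card_fixedPoints α
      rw [Nat.card_eq_fintype_card, hn] at h2
      refine h2.trans (congrArg (· % 7) ?_)
      rw [← Fintype.card_subtype, ← Nat.card_eq_fintype_card]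
      refine Nat.card_congr (Equiv.subtypeEquivRight fun z => ⟨fun h => h ⟨s, Subgroup.mem_zpowers s⟩, ?_⟩)
      rintro h ⟨_, j, rfl⟩
      exact Subgroup.zpow_mem (stabilizer G z) (show s ∈ stabilizer G z from h) j
    have h3 : 3 ≤ T.card := by
      refine le_trans (le_of_eq (Finset.card_eq_three.mpr ⟨a, b, x, hab, hxa.symm, hxb.symm, rfl⟩).symm)
        (Finset.card_le_card (t := T) ?_)
      simp [T, Finset.insert_subset_iff, hsF, hsfix]
    have h4 : T.card ≤ 9 := hn ▸ T.card_le_univ
    have h5 : 3 < T.card := by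
      unfold Nat.ModEq at hT
      omega
    have := hs s T h5 fun z hz => (Finset.mem_filter.mp hz).2
    rw [this, orderOf_one] at hs7
    norm_num at hs7
  -- a third point
  obtain ⟨c, -, hc⟩ := Finset.exists_mem_notMem_of_card_lt_card (s := ({a, b} : Finset α))
    (t := (Finset.univ : Finset α)) (by rw [Finset.card_pair hab, Finset.card_univ]; omega)
  simp only [Finset.mem_insert, Finset.mem_singleton, not_or] at hc
  have horb : ∀ x, x ≠ a → x ≠ b → ∃ i : ℕ, (s ^ i) • c = x := by
    have hsub : (Finset.univ : Finset (Fin 7)).image (fun i : Fin 7 => (s ^ (i : ℕ)) • c) =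
        Finset.univ \ ({a, b} : Finset α) := by
      refine Finset.eq_of_subset_of_card_le (fun x hx => ?_) ?_
      · obtain ⟨i, -, rfl⟩ := Finset.mem_image.mp hx
        simp only [Finset.mem_sdiff, Finset.mem_univ, true_and, Finset.mem_insert, Finset.mem_singleton,
          not_or]
        exact ⟨fun e => hc.1 (MulAction.injective (s ^ (i : ℕ)) (e.trans (hfixpow i).1.symm)),
          fun e => hc.2 (MulAction.injective (s ^ (i : ℕ)) (e.trans (hfixpow i).2.symm))⟩
      · rw [Finset.card_sdiff_of_subset (Finset.subset_univ _), Finset.card_pair hab, Finset.card_univ, hn,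
          Finset.card_image_of_injective (f := fun i : Fin 7 => (s ^ (i : ℕ)) • c) _ fun i j h => ?_,
          Finset.card_univ, Fintype.card_fin]
        rcases lt_trichotomy (i : ℕ) j with hlt | heq | hlt
        · refine absurd ?_ (hfree (j - i) (by omega) (by omega) c hc.1 hc.2)
          refine MulAction.injective (s ^ (i : ℕ)) ?_
          show (s ^ (i : ℕ)) • (s ^ ((j : ℕ) - i)) • c = (s ^ (i : ℕ)) • c
          rw [← mul_smul, ← pow_add, Nat.add_sub_cancel' hlt.le]
          exact h.symm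
        · exact Fin.ext heq
        · refine absurd ?_ (hfree (i - j) (by omega) (by omega) c hc.1 hc.2)
          refine MulAction.injective (s ^ (j : ℕ)) ?_
          show (s ^ (j : ℕ)) • (s ^ ((i : ℕ) - j)) • c = (s ^ (j : ℕ)) • c
          rw [← mul_smul, ← pow_add, Nat.add_sub_cancel' hlt.le]
          exact h
    intro x hxa hxb
    have : x ∈ Finset.univ \ ({a, b} : Finset α) := by simp [hxa, hxb]
    rw [← hsub] at this
    obtain ⟨i, -, hi⟩ := Finset.mem_image.mp this
    exact ⟨i, hi⟩
  -- elements commuting with the cycle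
  have hcomm : ∀ u : G, (u • a = a ∧ u • b = b ∨ u • a = b ∧ u • b = a) → u * s = s * u →
      ∃ i : ℕ, u = s ^ i := by
    intro u hu hus
    have hout : u • c ≠ a ∧ u • c ≠ b := by
      rcases hu with ⟨h1, h2⟩ | ⟨h1, h2⟩
      · exact ⟨fun e => hc.1 (MulAction.injective u (e.trans h1.symm)),
          fun e => hc.2 (MulAction.injective u (e.trans h2.symm))⟩
      · exact ⟨fun e => hc.2 (MulAction.injective u (e.trans h2.symm)),
          fun e => hc.1 (MulAction.injective u (e.trans h1.symm))⟩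
    obtain ⟨i, hi⟩ := horb _ hout.1 hout.2
    refine ⟨i, (eq_of_inv_mul_eq_one (hs ((s ^ i)⁻¹ * u) (Finset.univ \ {a, b}) ?_ fun x hx => ?_)).symm⟩
    · rw [Finset.card_sdiff_of_subset (Finset.subset_univ _), Finset.card_pair hab, Finset.card_univ, hn]
      norm_num
    · simp only [Finset.mem_sdiff, Finset.mem_univ, true_and, Finset.mem_insert, Finset.mem_singleton,
        not_or] at hx
      obtain ⟨j, rfl⟩ := horb x hx.1 hx.2
      rw [mul_smul, inv_smul_eq_iff, ← mul_smul u, (Commute.pow_right hus j).eq, mul_smul, ← hi,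
        ← mul_smul, ← mul_smul, ← pow_add, ← pow_add, Nat.add_comm]
  have hconj : ∀ u : G, (u • a = a ∧ u • b = b ∨ u • a = b ∧ u • b = a) →
      ∃ j : ℕ, u * s * u⁻¹ = s ^ j := by
    intro u hu
    have hm : u * s * u⁻¹ ∈ F := (hFm _).mpr (by
      rcases hu with ⟨h1, h2⟩ | ⟨h1, h2⟩
      · rw [mul_smul, mul_smul, mul_smul, mul_smul, show u⁻¹ • a = a from inv_smul_eq_iff.mpr h1.symm,
          show u⁻¹ • b = b from inv_smul_eq_iff.mpr h2.symm, hsF.1, hsF.2]
        exact ⟨h1, h2⟩
      · rw [mul_smul, mul_smul, mul_smul, mul_smul, show u⁻¹ • a = b from inv_smul_eq_iff.mpr h2.symm,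
          show u⁻¹ • b = a from inv_smul_eq_iff.mpr h1.symm, hsF.1, hsF.2]
        exact ⟨h2, h1⟩)
    refine hpow ⟨_, hm⟩ (Subtype.ext ?_)
    simp only [SubmonoidClass.coe_pow, OneMemClass.coe_one]
    rw [conj_pow, ← hs7, pow_orderOf_eq_one]
    simp
  have hpow_inj : ∀ i j : ℕ, s ^ i = s ^ j → i % 7 = j % 7 := fun i j h => by
    rw [pow_eq_pow_iff_modEq, hs7] at h; exact h
  have hiter : ∀ (u u' : G) (i j : ℕ), u * s * u⁻¹ = s ^ i → u' * s * u'⁻¹ = s ^ j →
      (u * u') * s * (u * u')⁻¹ = s ^ (i * j) := fun u u' i j h h' => by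
    rw [show (u * u') * s * (u * u')⁻¹ = u * (u' * s * u'⁻¹) * u⁻¹ by group, h', ← conj_pow, h, ← pow_mul]
  have hsq : ∀ m : ℕ, m % 7 = 1 ∨ m % 7 = 6 → s ^ m = s ∨ s ^ m = s ^ 6 := fun m h => by
    rw [← pow_mod_orderOf, hs7]
    rcases h with e | e <;> rw [e]
    · exact Or.inl (pow_one s)
    · exact Or.inr rfl
  -- an element inverting the cycle
  haveI : Fact (Nat.Prime 2) := ⟨Nat.prime_two⟩
  obtain ⟨v', hv'⟩ := exists_prime_orderOf_dvd_card' (G := F) 2 (by rw [hFc]; norm_num)
  set v : G := (v' : G)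
  have hvv : v * v = 1 := by
    have := congrArg Subtype.val (pow_orderOf_eq_one v')
    rwa [hv', SubmonoidClass.coe_pow, sq] at this
  have hvF := (hFm v).mp v'.2
  have hvP : ∀ i : ℕ, v ≠ s ^ i := fun i e => by
    have h1 : orderOf v ∣ 7 := hs7 ▸ e ▸ orderOf_pow_dvd i
    rw [show orderOf v = 2 by rw [← hv']; exact Subgroup.orderOf_coe v'] at h1
    norm_num at h1
  obtain ⟨e, he⟩ := hconj v (Or.inl hvF)
  have he6 : e % 7 = 6 := by
    have h1 := hiter v v e e he he
    rw [hvv, one_mul, inv_one, mul_one, eq_comm] at h1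
    have h2 := hpow_inj (e * e) 1 (by rw [h1, pow_one])
    rw [Nat.mul_mod] at h2
    have h4 : e % 7 = 1 ∨ e % 7 = 6 :=
      sq_mod_seven ⟨e % 7, Nat.mod_lt _ (by norm_num)⟩ (Or.inl h2)
    refine h4.resolve_left fun h5 => ?_
    obtain ⟨i, hi⟩ := hcomm v (Or.inl hvF) (by
      rw [mul_inv_eq_iff_eq_mul] at he
      rw [he, ← pow_mod_orderOf, hs7, h5, pow_one])
    exact hvP i hi
  -- an element exchanging the two fixed points
  obtain ⟨w, hw1, hw2⟩ := is_two_pretransitive_iff.mp ht2 hab hab.symm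
  obtain ⟨j, hj⟩ := hconj w (Or.inr ⟨hw1, hw2⟩)
  have hww : (w * w) ∈ F := (hFm _).mpr ⟨by rw [mul_smul, hw1, hw2], by rw [mul_smul, hw2, hw1]⟩
  have hj2 : (j * j) % 7 = 1 ∨ (j * j) % 7 = 6 := by
    have h1 := hiter w w j j hj hj
    by_cases hm : (⟨w * w, hww⟩ : F) ∈ P
    · obtain ⟨i, hi⟩ : ∃ i : ℕ, w * w = s ^ i := hpow ⟨_, hww⟩ (by
        obtain ⟨z, hz⟩ := hm
        rw [← hz, ← zpow_natCast, ← zpow_mul, mul_comm, zpow_mul, zpow_natCast, ← hs',
          pow_orderOf_eq_one, one_zpow])
      left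
      refine hpow_inj _ 1 ?_
      rw [← h1, hi, pow_one]
      group
    · have hv0 : v' ∉ P := fun hmv => by
        obtain ⟨i, hi⟩ := hpow v' (by
          obtain ⟨z, hz⟩ := hmv
          rw [← hz, ← zpow_natCast, ← zpow_mul, mul_comm, zpow_mul, zpow_natCast, ← hs',
            pow_orderOf_eq_one, one_zpow])
        exact hvP i hi
      have hprod : v' * ⟨w * w, hww⟩ ∈ P := (Subgroup.mul_mem_iff_of_index_two hPi).mpr
        (iff_of_false hv0 hm)
      obtain ⟨i, hi⟩ : ∃ i : ℕ, v * (w * w) = s ^ i := hpow (v' * ⟨w * w, hww⟩) (by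
        obtain ⟨z, hz⟩ := hprod
        rw [← hz, ← zpow_natCast, ← zpow_mul, mul_comm, zpow_mul, zpow_natCast, ← hs',
          pow_orderOf_eq_one, one_zpow])
      right
      rw [← he6]
      refine hpow_inj _ e ?_
      have h2 : w * w = v * s ^ i := by rw [← hi, ← mul_assoc, hvv, one_mul]
      rw [← h1, ← he, h2]
      group
  have hj1 : j % 7 = 1 ∨ j % 7 = 6 := by
    rw [Nat.mul_mod] at hj2
    exact sq_mod_seven ⟨j % 7, Nat.mod_lt _ (by norm_num)⟩ hj2
  -- some exchanging element centralises the cycle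
  obtain ⟨w', hw1', hw2', hw'⟩ : ∃ w' : G, w' • a = b ∧ w' • b = a ∧ w' * s = s * w' := by
    rcases hj1 with h5 | h5
    · refine ⟨w, hw1, hw2, ?_⟩
      rw [mul_inv_eq_iff_eq_mul] at hj
      rw [hj, ← pow_mod_orderOf, hs7, h5, pow_one]
    · refine ⟨w * v, by rw [mul_smul, hvF.1, hw1], by rw [mul_smul, hvF.2, hw2], ?_⟩
      have h1 := hiter w v j e hj he
      rw [mul_inv_eq_iff_eq_mul] at h1
      rw [h1, ← pow_mod_orderOf, hs7, Nat.mul_mod, h5, he6]
      norm_num
  obtain ⟨i, hi⟩ := hcomm w' (Or.inr ⟨hw1', hw2'⟩) hw'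
  exact hab (by rw [← hw1', hi, (hfixpow i).1])

theorem small_table : ∀ k : Fin 6, 3 ≤ (k : ℕ) → ∀ p : Fin 25, (p : ℕ) ∣ ((k : ℕ) - 1).factorial →
    (p : ℕ) < ((k : ℕ) - 1).factorial → ∀ j : Fin 126, 1 ≤ (j : ℕ) → ((j : ℕ) + 1) ∣ (k : ℕ) * (p : ℕ) →
    ((k : ℕ) - 1).factorial ∣ ((j : ℕ) + 2) * (p : ℕ) →
    (((j : ℕ) + 2) * (p : ℕ) / ((k : ℕ) - 1).factorial) ∣ ((j : ℕ) + 2) →
    ((k : ℕ), (k : ℕ) + (j : ℕ), (((j : ℕ) + 2) * (p : ℕ)) / ((k : ℕ) - 1).factorial) ∈
      [(3, 5, 2), (4, 5, 1), (4, 11, 3), (4, 6, 2), (5, 19, 2), (5, 19, 4), (5, 19, 8), (5, 9, 1), (5, 9, 2),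
        (5, 9, 3), (5, 7, 1), (5, 7, 2), (5, 6, 1), (5, 12, 3), (5, 24, 7)] := by
  decide +kernel

/-- The Livingstone–Wagner exceptions. -/
theorem exceptions (hk : 3 ≤ k) (hkn : k ≤ Fintype.card α)
    (ht : IsMultiplyPretransitive G α (k - 2)) (hnt : ¬ IsMultiplyPretransitive G α (k - 1))
    (hh1 : IsPretransitive G (Set.powersetCard α (k - 1))) (hh : IsPretransitive G (Set.powersetCard α k)) :
    (k = Fintype.card α ∧ G = alternatingGroup α) ∨
      (Fintype.card α = 5 ∧ k = 4 ∧ Nat.card G = 20) ∨ (Fintype.card α = 6 ∧ k = 5 ∧ Nat.card G = 120) ∨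
      (Fintype.card α = 9 ∧ k = 5 ∧ (Nat.card G = 504 ∨ Nat.card G = 1512)) := by
  classical
  obtain ⟨hsf, p, h, hGp, hGh, hhd, hpd, hplt, hd1, hd2, hstab⟩ := numbers hk hkn ht hnt hh1 hh
  haveI : Nontrivial α := Fintype.one_lt_card_iff_nontrivial.mp (by omega)
  rcases eq_or_lt_of_le hkn with heq | hlt
  · refine Or.inl ⟨heq, ?_⟩
    have hA : alternatingGroup α ≤ G := IsMultiplyPretransitive.alternatingGroup_le α G
      (by rwa [Nat.card_eq_fintype_card, ← heq])
    have hne : G ≠ ⊤ := fun e => hnt (by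
      subst e
      refine isMultiplyPretransitive_iff.mpr fun x y => ?_
      obtain ⟨σ, hσ⟩ := Equiv.Perm.exists_smul_eq_embedding x y
      exact ⟨⟨σ, Subgroup.mem_top σ⟩, hσ⟩)
    have h1 := Subgroup.relIndex_mul_index hA
    rw [alternatingGroup.index_eq_two] at h1
    rcases (Nat.dvd_prime Nat.prime_two).mp ⟨_, h1.symm⟩ with h2 | h2
    · exact le_antisymm (Subgroup.relIndex_eq_one.mp h2) hA
    · refine absurd (Subgroup.index_eq_one.mp ?_) hne
      rw [h2] at h1
      omega
  by_cases hk6 : 6 ≤ k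
  · exfalso
    rcases small_cases (show 4 ≤ k - 2 by omega) (by omega) ht hsf with hA | hA | ⟨hk2, hn, h1⟩
    · refine hnt ?_
      haveI : IsMultiplyPretransitive (alternatingGroup α) α (Fintype.card α - 2) := by
        rw [← Nat.card_eq_fintype_card]
        exact alternatingGroup.isMultiplyPretransitive α
      haveI : IsMultiplyPretransitive (alternatingGroup α) α (k - 1) :=
        isMultiplyPretransitive_of_le (n := Fintype.card α - 2) (by omega)
          (by rw [Nat.card_eq_fintype_card]; omega)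
      refine isMultiplyPretransitive_iff.mpr fun x y => ?_
      obtain ⟨g, hg⟩ := exists_smul_eq (alternatingGroup α) x y
      exact ⟨⟨g, hA g.2⟩, hg⟩
    · rw [show k - 2 + 1 = k - 1 by omega] at hA
      exact hnt hA
    · obtain ⟨r, -, hr⟩ := Finset.exists_subset_card_eq (s := (Finset.univ : Finset α)) (n := k - 2)
        (by rw [Finset.card_univ]; omega)
      have h2 := card_fixing ht r hr.le (by omega)
      rw [h1 r hr, Subgroup.card_bot, mul_one, hr, hGp, hn] at h2
      rcases hk2 with e | e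
      · obtain rfl : k = 6 := by omega
        rw [show Nat.choose (6 - 2 + 7) (6 - 1) = 462 from rfl,
          show Nat.descFactorial (6 - 2 + 7) (6 - 2) = 7920 from rfl] at h2
        omega
      · obtain rfl : k = 7 := by omega
        rw [show Nat.choose (7 - 2 + 7) (7 - 1) = 924 from rfl,
          show Nat.descFactorial (7 - 2 + 7) (7 - 2) = 95040 from rfl] at h2
        omega
  -- the finitely many small cases
  obtain ⟨j, hj⟩ : ∃ j, Fintype.card α = k + j := ⟨Fintype.card α - k, by omega⟩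
  rw [hj, show k + j - (k - 1) = j + 1 by omega] at hd1
  rw [hj, show k + j - (k - 2) = j + 2 by omega] at hd2 hhd
  have hF : (k - 1).factorial ≤ 24 := (Nat.factorial_le (show k - 1 ≤ 4 by omega))
  have hp0 : 0 < p := by
    rcases Nat.eq_zero_or_pos p with e | e
    · rw [e, mul_zero] at hGp
      exact absurd hGp Nat.card_pos.ne'
    · exact e
  have hj125 : j < 126 := by
    have h1 := Nat.le_of_dvd (Nat.mul_pos (show 0 < k by omega) hp0) hd1
    have h2 : k * p ≤ 5 * 24 := Nat.mul_le_mul (by omega) (by omega)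
    omega
  have hdiv : (j + 2) * p / (k - 1).factorial = h := by
    rw [hd2, Nat.mul_div_cancel_left _ (Nat.factorial_pos _)]
  have htab := small_table ⟨k, by omega⟩ hk ⟨p, by omega⟩ hpd hplt ⟨j, hj125⟩ (show 1 ≤ j by omega) hd1
    ⟨h, hd2⟩ (by rw [hdiv]; exact hhd)
  simp only [hdiv, ← hj, List.mem_cons, List.not_mem_nil, or_false, Prod.mk.injEq] at htab
  haveI := hsf.faithful (show k - 2 < Fintype.card α by omega)
  have hsucc : ∀ q d : ℕ, q.Prime → Fintype.card α = q + 1 → ¬ q ∣ d → NoIndex q d → 4 ≤ k →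
      Nat.card G ≠ (q + 1) * (q * d) := fun q d hq hn hd hno hk4 =>
    no_prime_succ_degree
      (haveI := ht; isMultiplyPretransitive_of_le (n := k - 2) (by omega)
        (by rw [Nat.card_eq_fintype_card]; omega)) q d hq hn hd hno
  have hdeg : ∀ q d : ℕ, q.Prime → Fintype.card α = q → ¬ q ∣ d → NoIndex q d →
      Nat.card G ≠ q * d := fun q d hq hn hd hno =>
    haveI := isPretransitive_of ht (by omega) (by omega)
    no_prime_degree q d hq hn hd hno
  rcases htab with ⟨rfl, hn, rfl⟩ | ⟨rfl, hn, rfl⟩ | ⟨rfl, hn, rfl⟩ | ⟨rfl, hn, rfl⟩ | ⟨rfl, hn, rfl⟩ |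
    ⟨rfl, hn, rfl⟩ | ⟨rfl, hn, rfl⟩ | ⟨rfl, hn, rfl⟩ | ⟨rfl, hn, rfl⟩ | ⟨rfl, hn, rfl⟩ | ⟨rfl, hn, rfl⟩ |
    ⟨rfl, hn, rfl⟩ | ⟨rfl, hn, rfl⟩ | ⟨rfl, hn, rfl⟩ | ⟨rfl, hn, rfl⟩ <;>
    rw [hn] at hGh <;> norm_num [Nat.descFactorial_succ, -Nat.card_eq_fintype_card] at hGh
  · exfalso
    refine hnt ((S0735.result G hh1 (by omega)).1 ?_)
    rw [hGh]; decide
  · exact Or.inr (Or.inl ⟨hn, rfl, hGh⟩)
  · exact absurd hGh (hdeg 11 30 (by norm_num) hn (by norm_num) (by unfold NoIndex; decide +kernel))
  · exfalso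
    refine no_sixty hn hGh (isPretransitive_of ht (by norm_num) (by omega)) fun Γ => ?_
    rw [hstab Γ]
    rw [hn] at hGp
    rw [hGh, show Nat.choose 6 (4 - 1) = 20 from rfl] at hGp
    omega
  · exact absurd hGh (hdeg 19 612 (by norm_num) hn (by norm_num) (by unfold NoIndex; decide +kernel))
  · exact absurd hGh (hdeg 19 1224 (by norm_num) hn (by norm_num) (by unfold NoIndex; decide +kernel))
  · exact absurd hGh (hdeg 19 2448 (by norm_num) hn (by norm_num) (by unfold NoIndex; decide +kernel))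
  · exact Or.inr (Or.inr (Or.inr ⟨hn, rfl, Or.inl hGh⟩))
  · exact (no_1008 hn hGh ht hsf).elim
  · exact Or.inr (Or.inr (Or.inr ⟨hn, rfl, Or.inr hGh⟩))
  · exact (no_two_ten hn hGh ht hsf).elim
  · exact absurd hGh (hdeg 7 60 (by norm_num) hn (by norm_num) (by unfold NoIndex; decide +kernel))
  · exact Or.inr (Or.inr (Or.inl ⟨hn, rfl, hGh⟩))
  · exact absurd hGh (hsucc 11 30 (by norm_num) hn (by norm_num) (by unfold NoIndex; decide +kernel)
      (by norm_num))
  · exact absurd hGh (hsucc 23 154 (by norm_num) hn (by norm_num) (by unfold NoIndex; decide +kernel)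
      (by norm_num))

/-- Homogeneity descends below the middle. -/
theorem homogeneous_pred (hk : 2 ≤ k) (hkn : 2 * k ≤ Fintype.card α)
    (hh : IsPretransitive G (Set.powersetCard α k)) : IsPretransitive G (Set.powersetCard α (k - 1)) :=
  S0736.result G hk hh fun q _ hqk => by
    have := Nat.le_of_dvd (by omega) hqk
    omega

/-- A k-homogeneous group of degree at least 2k is (k-1)-transitive. -/
theorem transitive_of_homogeneous (hk : 2 ≤ k) (hkn : 2 * k ≤ Fintype.card α)
    (hh : IsPretransitive G (Set.powersetCard α k)) : IsMultiplyPretransitive G α (k - 1) := by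
  induction k using Nat.strong_induction_on with
  | _ k ih =>
  have hh1 := homogeneous_pred hk hkn hh
  rcases eq_or_lt_of_le hk with rfl | h2
  · show IsMultiplyPretransitive G α 1
    rw [is_one_pretransitive_iff]
    refine ⟨fun x y => ?_⟩
    obtain ⟨g, hg⟩ := hh1.exists_smul_eq ⟨{x}, Finset.card_singleton x⟩ ⟨{y}, Finset.card_singleton y⟩
    have e : g • ({x} : Finset α) = {y} := congrArg Subtype.val hg
    rw [Finset.smul_finset_singleton, Finset.singleton_inj] at e
    exact ⟨g, e⟩
  · by_contra hnt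
    have ht := ih (k - 1) (by omega) (by omega) (by omega) hh1
    rw [show k - 1 - 1 = k - 2 by omega] at ht
    rcases exceptions (show 3 ≤ k by omega) (by omega) ht hnt hh1 hh with
      ⟨e, -⟩ | ⟨e, e', -⟩ | ⟨e, e', -⟩ | ⟨e, e', -⟩ <;> omega

end Cfsg.Agent.PermGroups.LW
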