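/-
Even permutations of a set of k + 1 points induced by a k-transitive group.
-/
import Cfsg.Agent.PermGroups.LW.Small
import Cfsg.Agent.S0743
import Mathlib.GroupTheory.Nilpotent

set_option autoImplicit false
set_option linter.style.haveILetI false

namespace Cfsg.Agent.PermGroups.LW

open MulAction SubMulAction
open scoped Pointwise

/-- The permutations of a set induced by a group. -/
def induced {α : Type*} (G : Subgroup (Equiv.Perm α)) (Δ : Finset α) : Subgroup (Equiv.Perm ↥Δ) where
  carrier := {σ | ∃ g ∈ G, ∀ x : ↥Δ, g (x : α) = σ x}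
  one_mem' := ⟨1, G.one_mem, fun _ => rfl⟩
  mul_mem' := by
    rintro σ τ ⟨g, hg, hgσ⟩ ⟨h, hh, hhτ⟩
    exact ⟨g * h, G.mul_mem hg hh, fun x => by
      rw [Equiv.Perm.mul_apply, hhτ, hgσ, Equiv.Perm.mul_apply]⟩
  inv_mem' := by
    rintro σ ⟨g, hg, hgσ⟩
    refine ⟨g⁻¹, G.inv_mem hg, fun x => ?_⟩
    rw [Equiv.Perm.inv_eq_iff_eq, hgσ]
    simp

theorem mem_induced {α : Type*} {G : Subgroup (Equiv.Perm α)} {Δ : Finset α} {σ : Equiv.Perm ↥Δ} :
    σ ∈ induced G Δ ↔ ∃ g ∈ G, ∀ x : ↥Δ, g (x : α) = σ x := Iff.rfl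

variable {α : Type*} [Fintype α] [DecidableEq α] {G : Subgroup (Equiv.Perm α)} {k : ℕ}

/-- A multiply transitive group induces every permutation of a small set. -/
theorem induced_eq_top (ht : IsMultiplyPretransitive G α k) (hk : k ≤ Fintype.card α) (Δ : Finset α)
    (hΔ : Δ.card ≤ k) : induced G Δ = ⊤ := by
  refine top_le_iff.mp fun σ _ => ?_
  have : IsMultiplyPretransitive G α (Fintype.card ↥Δ) :=
    haveI := ht
    isMultiplyPretransitive_of_le (n := k) (by rwa [Fintype.card_coe]) (by rwa [Nat.card_eq_fintype_card])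
  set e := Fintype.equivFin ↥Δ
  obtain ⟨g, hg⟩ := exists_map this (a := fun i => ((e.symm i : ↥Δ) : α))
    (b := fun i => ((σ (e.symm i) : ↥Δ) : α)) (Subtype.val_injective.comp e.symm.injective)
    (Subtype.val_injective.comp (σ.injective.comp e.symm.injective))
  refine ⟨g, g.2, fun x => ?_⟩
  have h1 : ((g : G) : Equiv.Perm α) ((e.symm (e x) : ↥Δ) : α) = ((σ (e.symm (e x)) : ↥Δ) : α) := hg (e x)
  rwa [Equiv.symm_apply_apply] at h1

/-- An alternating group on everything induces the even permutations of every set. -/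
theorem even_mem_induced (h : alternatingGroup α ≤ G) (Δ : Finset α) (σ : Equiv.Perm ↥Δ)
    (hσ : σ ∈ alternatingGroup ↥Δ) : σ ∈ induced G Δ :=
  ⟨Equiv.Perm.ofSubtype σ, h (Equiv.Perm.mem_alternatingGroup.mpr
      ((Equiv.Perm.sign_ofSubtype σ).trans (Equiv.Perm.mem_alternatingGroup.mp hσ))),
    fun x => Equiv.Perm.ofSubtype_apply_coe σ x⟩

section Sharp

variable (hk : 4 ≤ k) (hn : Fintype.card α = k + 7) (ht : IsMultiplyPretransitive G α k)
  (hs : Semifix G α k) (h1 : ∀ s : Finset α, s.card = k → fixingSubgroup G (s : Set α) = ⊥)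

include h1 in
omit [Fintype α] in
theorem eq_of_agree_sharp {s : Finset α} (hsk : s.card = k) {g g' : G}
    (h : ∀ x ∈ s, g • x = g' • x) : g = g' := by
  have : g'⁻¹ * g ∈ fixingSubgroup G (s : Set α) := by
    rw [mem_fixingSubgroup_iff]
    intro x hx
    rw [mul_smul, h x (Finset.mem_coe.mp hx), inv_smul_smul]
  rw [h1 s hsk, Subgroup.mem_bot] at this
  exact (eq_of_inv_mul_eq_one this).symm

/-- The points fixed by an element of prime order have the parity of the degree. -/
theorem card_fix_modEq {p : ℕ} [Fact p.Prime] {g : G} (hg : g ^ p = 1) :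
    Fintype.card α ≡ (Finset.univ.filter fun x : α => g • x = x).card [MOD p] := by
  have hP : IsPGroup p (Subgroup.zpowers g) := by
    rintro ⟨_, i, rfl⟩
    exact ⟨1, Subtype.ext (by
      rw [pow_one, SubmonoidClass.coe_pow, OneMemClass.coe_one, ← zpow_natCast (g ^ i), ← zpow_mul,
        mul_comm, zpow_mul, zpow_natCast, hg, one_zpow])⟩
  have h2 := hP.card_modEq_card_fixedPoints α
  rw [Nat.card_eq_fintype_card] at h2
  refine h2.trans (congrArg (· % p) ?_)
  rw [← Fintype.card_subtype, ← Nat.card_eq_fintype_card]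
  refine Nat.card_congr (Equiv.subtypeEquivRight fun x => ⟨fun h => h ⟨g, Subgroup.mem_zpowers g⟩, ?_⟩)
  rintro h ⟨_, i, rfl⟩
  exact zpow_smul_eq_self h i
where
  zpow_smul_eq_self {x : α} (h : g • x = x) (i : ℤ) : g ^ i • x = x :=
    (Subgroup.zpow_mem (stabilizer G x) (show g ∈ stabilizer G x from h) i)

include hk hn hs in
/-- Each element of order two or three with the right shape fixes a single further point. -/
theorem exists_unique_fixed {s : Finset α} (hsk : s.card = k) {g : G} (hg1 : g ≠ 1) {p : ℕ}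
    (hp : p = 2 ∨ p = 3) (hgp : g ^ p = 1) {t : Finset α} (hts : t ⊆ s) (htc : t.card = p)
    (hfix : ∀ x ∈ s, g • x = x ↔ x ∉ t) : ∃ q, q ∉ s ∧ g • q = q ∧ ∀ x ∉ s, g • x = x → x = q := by
  have : Fact p.Prime := ⟨by rcases hp with rfl | rfl <;> norm_num⟩
  have hmod := card_fix_modEq (G := G) (α := α) hgp
  set F := Finset.univ.filter fun x : α => g • x = x
  set O := F.filter fun x => x ∉ s with hO
  have hin : F.filter (fun x => x ∈ s) = s \ t := by
    ext x
    simp only [F, Finset.mem_filter, Finset.mem_univ, true_and, Finset.mem_sdiff]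
    exact ⟨fun h => ⟨h.2, (hfix x h.2).mp h.1⟩, fun h => ⟨(hfix x h.1).mpr h.2, h.1⟩⟩
  have hsum : F.card = (k - p) + O.card := by
    rw [← Finset.card_filter_add_card_filter_not (s := F) (fun x => x ∈ s), hin,
      Finset.card_sdiff_of_subset hts, hsk, htc]
  have hle : F.card ≤ k := by
    by_contra hlt
    exact hg1 (hs g F (by omega) fun x hx => (Finset.mem_filter.mp hx).2)
  have hpk : p ≤ k := by rcases hp with rfl | rfl <;> omega
  have hone : O.card = 1 := by
    rw [hn, hsum] at hmod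
    unfold Nat.ModEq at hmod
    rcases hp with rfl | rfl <;> omega
  obtain ⟨q, hq⟩ := Finset.card_eq_one.mp hone
  have hmem : ∀ x, x ∈ O ↔ g • x = x ∧ x ∉ s := fun x => by simp [O, F]
  refine ⟨q, ((hmem q).mp (hq ▸ Finset.mem_singleton_self q)).2,
    ((hmem q).mp (hq ▸ Finset.mem_singleton_self q)).1, fun x hx hgx => ?_⟩
  have := (hmem x).mpr ⟨hgx, hx⟩
  rwa [hq, Finset.mem_singleton] at this

include hk hn ht hs h1 in
/-- In the sharply transitive cases some set of k + 1 points has all permutations induced. -/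
theorem induced_eq_top_sharp : ∃ Δ : Finset α, Δ.card = k + 1 ∧ induced G Δ = ⊤ := by
  classical
  have hkn : k ≤ Fintype.card α := by omega
  -- lifts of transpositions
  have lift : ∀ (s : Finset α), s.card = k → ∀ a b, a ∈ s → b ∈ s →
      ∃ g : G, ∀ x ∈ s, g • x = Equiv.swap a b x := by
    intro s hsk a b ha hb
    obtain ⟨g, hg, hgx⟩ := (mem_induced (G := G)).mp
      ((induced_eq_top ht hkn s hsk.le).symm ▸ Subgroup.mem_top (Equiv.swap (⟨a, ha⟩ : ↥s) ⟨b, hb⟩))
    refine ⟨⟨g, hg⟩, fun x hx => ?_⟩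
    show g x = _
    rw [hgx ⟨x, hx⟩, Equiv.swap_apply_def, Equiv.swap_apply_def]
    simp only [Subtype.ext_iff]
    split_ifs <;> rfl
  -- every transposition fixes one further point
  have pt : ∀ (s : Finset α), s.card = k → ∀ a b, a ∈ s → b ∈ s → a ≠ b → ∀ g : G,
      (∀ x ∈ s, g • x = Equiv.swap a b x) → ∃ q, q ∉ s ∧ g • q = q ∧ ∀ x ∉ s, g • x = x → x = q := by
    intro s hsk a b ha hb hab g hg
    refine exists_unique_fixed hk hn hs hsk (fun e => hab ?_) (Or.inl rfl) ?_ (t := {a, b})
      (Finset.insert_subset ha (Finset.singleton_subset_iff.mpr hb)) (Finset.card_pair hab) fun x hx => ?_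
    · have := hg a ha
      rwa [e, one_smul, Equiv.swap_apply_left] at this
    · refine eq_of_agree_sharp h1 hsk fun x hx => ?_
      have hmem : Equiv.swap a b x ∈ s := by
        rw [Equiv.swap_apply_def]; split_ifs <;> assumption
      rw [sq, mul_smul, hg x hx, hg _ hmem, Equiv.swap_apply_self, one_smul]
    · rw [hg x hx, Finset.mem_insert, Finset.mem_singleton, not_or]
      constructor
      · intro e
        constructor
        · rintro rfl; rw [Equiv.swap_apply_left] at e; exact hab e.symm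
        · rintro rfl; rw [Equiv.swap_apply_right] at e; exact hab e
      · exact fun h => Equiv.swap_apply_of_ne_of_ne h.1 h.2
  -- transpositions sharing a point fix the same further point
  have share : ∀ (s : Finset α), s.card = k → ∀ a b c, a ∈ s → b ∈ s → c ∈ s → a ≠ b → b ≠ c → a ≠ c →
      ∀ g g' : G, (∀ x ∈ s, g • x = Equiv.swap a b x) → (∀ x ∈ s, g' • x = Equiv.swap b c x) →
      ∀ q, q ∉ s → g • q = q → g' • q = q := by
    intro s hsk a b c ha hb hc hab hbc hac g g' hg hg' q hq hgq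
    have hsw : ∀ (u v x : α), u ∈ s → v ∈ s → x ∈ s → Equiv.swap u v x ∈ s := fun u v x hu hv hx => by
      rw [Equiv.swap_apply_def]; split_ifs <;> assumption
    have hgg : g * g = 1 := eq_of_agree_sharp h1 hsk fun x hx => by
      rw [mul_smul, hg x hx, hg _ (hsw a b x ha hb hx), Equiv.swap_apply_self, one_smul]
    have hgg' : g' * g' = 1 := eq_of_agree_sharp h1 hsk fun x hx => by
      rw [mul_smul, hg' x hx, hg' _ (hsw b c x hb hc hx), Equiv.swap_apply_self, one_smul]
    have he : ∀ x ∈ s, (g * g') • x = Equiv.swap a b (Equiv.swap b c x) := fun x hx => by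
      rw [mul_smul, hg' x hx, hg _ (hsw b c x hb hc hx)]
    have hea : (g * g') • a = b := by
      rw [he a ha, Equiv.swap_apply_of_ne_of_ne hab hac, Equiv.swap_apply_left]
    have heb : (g * g') • b = c := by
      rw [he b hb, Equiv.swap_apply_left, Equiv.swap_apply_of_ne_of_ne hac.symm hbc.symm]
    have hec : (g * g') • c = a := by
      rw [he c hc, Equiv.swap_apply_right, Equiv.swap_apply_right]
    have hrest : ∀ x ∈ s, x ∉ ({a, b, c} : Finset α) → (g * g') • x = x := fun x hx hne => by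
      simp only [Finset.mem_insert, Finset.mem_singleton, not_or] at hne
      rw [he x hx, Equiv.swap_apply_of_ne_of_ne hne.2.1 hne.2.2,
        Equiv.swap_apply_of_ne_of_ne hne.1 hne.2.1]
    have h3 : (g * g') ^ 3 = 1 := eq_of_agree_sharp h1 hsk fun x hx => by
      rw [pow_succ, sq, mul_smul, mul_smul, one_smul]
      by_cases hm : x ∈ ({a, b, c} : Finset α)
      · simp only [Finset.mem_insert, Finset.mem_singleton] at hm
        rcases hm with rfl | rfl | rfl <;> simp only [hea, heb, hec]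
      · simp only [hrest x hx hm]
    obtain ⟨r, hr, her, huniq⟩ := exists_unique_fixed hk hn hs hsk (g := g * g')
      (fun e => hab (by rw [← hea, e, one_smul])) (Or.inr rfl) h3 (t := {a, b, c})
      (by simp [Finset.insert_subset_iff, ha, hb, hc])
      (Finset.card_eq_three.mpr ⟨a, b, c, hab, hac, hbc, rfl⟩) fun x hx => by
        constructor
        · intro e hm
          simp only [Finset.mem_insert, Finset.mem_singleton] at hm
          rcases hm with rfl | rfl | rfl
          · exact hab (e.symm.trans hea)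
          · exact hbc (e.symm.trans heb)
          · exact hac (hec.symm.trans e)
        · exact hrest x hx
    have hinv_fix : (g * g')⁻¹ • r = r := inv_smul_eq_iff.mpr her.symm
    have hout : ∀ (u v : α) (u' : G), u ∈ s → v ∈ s → u' * u' = 1 → (∀ x ∈ s, u' • x = Equiv.swap u v x) →
        u' • r ∉ s := by
      intro u v u' hu hv huu hu' hm
      have h2 : u' • u' • r = Equiv.swap u v (u' • r) := hu' _ hm
      rw [← mul_smul, huu, one_smul] at h2
      exact hr (h2 ▸ hsw u v _ hu hv hm)
    have hgi : (g * g')⁻¹ = g' * g := by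
      rw [mul_inv_rev, inv_eq_of_mul_eq_one_right hgg, inv_eq_of_mul_eq_one_right hgg']
    have hgr : g • r = r := huniq _ (hout a b g ha hb hgg hg) (by
      rw [← mul_smul, show g * g' * g = g * (g * g')⁻¹ by rw [hgi, mul_assoc], mul_smul, hinv_fix])
    have hg'r : g' • r = r := huniq _ (hout b c g' hb hc hgg' hg') (by
      rw [← mul_smul, show g * g' * g' = g' * (g * g')⁻¹ by
        rw [hgi, mul_assoc, hgg', mul_one, ← mul_assoc, hgg', one_mul], mul_smul, hinv_fix])
    obtain ⟨q₁, -, -, hu₁⟩ := pt s hsk a b ha hb hab g hg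
    rw [hu₁ q hq hgq, ← hu₁ r hr hgr, hg'r]
  -- a common point
  have common : ∀ (s : Finset α), s.card = k → ∀ a b c d, a ∈ s → b ∈ s → c ∈ s → d ∈ s → a ≠ b → c ≠ d →
      ∀ g g' : G, (∀ x ∈ s, g • x = Equiv.swap a b x) → (∀ x ∈ s, g' • x = Equiv.swap c d x) →
      ∀ q, q ∉ s → g • q = q → g' • q = q := by
    intro s hsk a b c d ha hb hc hd hab hcd g g' hg hg' q hq hgq
    -- replace one end at a time
    have step : ∀ u v w, u ∈ s → v ∈ s → w ∈ s → u ≠ v → v ≠ w → ∀ f : G,
        (∀ x ∈ s, f • x = Equiv.swap u v x) → f • q = q → ∀ f' : G,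
        (∀ x ∈ s, f' • x = Equiv.swap v w x) → f' • q = q := by
      intro u v w hu hv hw huv hvw f hf hfq f' hf'
      by_cases huw : u = w
      · subst huw
        have : f' = f := eq_of_agree_sharp h1 hsk fun x hx => by rw [hf x hx, hf' x hx, Equiv.swap_comm]
        rwa [this]
      · exact share s hsk u v w hu hv hw huv hvw huw f f' hf hf' q hq hfq
    have sym : ∀ u v, ∀ f : G, (∀ x ∈ s, f • x = Equiv.swap u v x) →
        ∀ x ∈ s, f • x = Equiv.swap v u x := fun u v f hf x hx => by rw [hf x hx, Equiv.swap_comm]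
    by_cases hbc : b = c
    · subst hbc; exact step a b d ha hb hd hab hcd g hg hgq g' hg'
    by_cases hbd : b = d
    · subst hbd; exact step a b c ha hb hc hab hbc g hg hgq g' (sym c b g' hg')
    obtain ⟨m, hm⟩ := lift s hsk b c hb hc
    exact step b c d hb hc hd hbc hcd m hm (step a b c ha hb hc hab hbc g hg hgq m hm) g' hg'
  obtain ⟨s, -, hsk⟩ := Finset.exists_subset_card_eq (s := (Finset.univ : Finset α)) (n := k)
    (by rw [Finset.card_univ]; omega)
  obtain ⟨a, ha⟩ : s.Nonempty := Finset.card_pos.mp (by omega)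
  obtain ⟨b, hb, hba⟩ := Finset.exists_mem_ne (by omega : 1 < s.card) a
  obtain ⟨g₀, hg₀⟩ := lift s hsk a b ha hb
  obtain ⟨p, hp, hgp, -⟩ := pt s hsk a b ha hb hba.symm g₀ hg₀
  refine ⟨insert p s, by rw [Finset.card_insert_of_notMem hp, hsk], ?_⟩
  refine top_le_iff.mp ?_
  rw [← Equiv.Perm.closure_isSwap, Subgroup.closure_le]
  rintro _ ⟨⟨x, hx⟩, ⟨y, hy⟩, hxy, rfl⟩
  have hxy' : x ≠ y := fun e => hxy (Subtype.ext e)
  -- the two points lie in a k-subset whose stabiliser fixes the remaining point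
  obtain ⟨d, hd, hdx, hdy⟩ : ∃ d ∈ s, d ≠ x ∧ d ≠ y := by
    obtain ⟨d, hd, hd'⟩ := Finset.exists_mem_notMem_of_card_lt_card (s := ({x, y} : Finset α)) (t := s)
      (by rw [Finset.card_pair hxy', hsk]; omega)
    simp only [Finset.mem_insert, Finset.mem_singleton, not_or] at hd'
    exact ⟨d, hd, hd'⟩
  set s' := insert p (s.erase d) with hs'
  have hs'k : s'.card = k := by
    rw [hs', Finset.card_insert_of_notMem (fun h => hp (Finset.mem_of_mem_erase h)),
      Finset.card_erase_of_mem hd, hsk]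
    omega
  have hdp : d ≠ p := fun e => hp (e ▸ hd)
  have hds' : d ∉ s' := by simp [hs', hdp]
  have hsub : ∀ z ∈ insert p s, z ≠ d → z ∈ s' := fun z hz hzd => by
    simp only [hs', Finset.mem_insert, Finset.mem_erase] at hz ⊢
    tauto
  -- a transposition inside both sets
  obtain ⟨u, hu, v, hv, huv⟩ : ∃ u ∈ s.erase d, ∃ v ∈ s.erase d, u ≠ v :=
    Finset.one_lt_card.mp (by rw [Finset.card_erase_of_mem hd, hsk]; omega)
  obtain ⟨τ, hτ⟩ := lift s hsk u v (Finset.mem_of_mem_erase hu) (Finset.mem_of_mem_erase hv)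
  have hτp : τ • p = p := common s hsk a b u v ha hb (Finset.mem_of_mem_erase hu)
    (Finset.mem_of_mem_erase hv) hba.symm huv g₀ τ hg₀ hτ p hp hgp
  have hτd : τ • d = d := by
    rw [hτ d hd, Equiv.swap_apply_of_ne_of_ne (Finset.ne_of_mem_erase hu).symm (Finset.ne_of_mem_erase hv).symm]
  have hτ' : ∀ z ∈ s', τ • z = Equiv.swap u v z := fun z hz => by
    rcases Finset.mem_insert.mp hz with rfl | hz
    · rw [hτp, Equiv.swap_apply_of_ne_of_ne (fun e => hp (by rw [e]; exact Finset.mem_of_mem_erase hu))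
        (fun e => hp (by rw [e]; exact Finset.mem_of_mem_erase hv))]
    · exact hτ z (Finset.mem_of_mem_erase hz)
  have hxs' := hsub x hx hdx.symm
  have hys' := hsub y hy hdy.symm
  obtain ⟨m, hm⟩ := lift s' hs'k x y hxs' hys'
  have hmd : m • d = d := common s' hs'k u v x y (Finset.mem_insert_of_mem hu) (Finset.mem_insert_of_mem hv)
    hxs' hys' huv hxy' τ m hτ' hm d hds' hτd
  refine ⟨(m : Equiv.Perm α), m.2, fun z => ?_⟩
  rw [Equiv.swap_apply_def]
  by_cases hzd : (z : α) = d
  · rw [if_neg (fun e => hdx (hzd.symm.trans (congrArg Subtype.val e))),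
      if_neg (fun e => hdy (hzd.symm.trans (congrArg Subtype.val e))), hzd]
    exact hmd
  · show m • (z : α) = _
    rw [hm _ (hsub _ z.2 hzd), Equiv.swap_apply_def]
    simp only [Subtype.ext_iff]
    split_ifs <;> rfl

end Sharp

/-- Restriction to the fixed points of a subgroup of larger fixed point set. -/
theorem exists_smaller (hk : 1 ≤ k) (ht : IsMultiplyPretransitive G α k)
    (hnot : ¬ Semifix G α k) :
    ∃ (F : Finset α) (G' : Subgroup (Equiv.Perm ↥F)), k < F.card ∧ F.card < Fintype.card α ∧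
      IsMultiplyPretransitive G' ↥F k ∧
      ∀ h ∈ G', ∃ g ∈ G, ∀ x : ↥F, g (x : α) = (h x : α) := by
  classical
  simp only [Semifix, not_forall] at hnot
  obtain ⟨g₀, s₀, hs₀, hfix₀, hg₀⟩ := hnot
  obtain ⟨p, hp, hpd⟩ := Nat.exists_prime_and_dvd (n := orderOf g₀) (fun e => hg₀ (orderOf_eq_one_iff.mp e))
  have := Fact.mk hp
  let Fix : Subgroup G → Finset α := fun U => Finset.univ.filter fun x => ∀ u ∈ U, u • x = x
  have hFix : ∀ U x, x ∈ Fix U ↔ ∀ u ∈ U, u • x = x := fun U x => by simp [Fix]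
  let S : Finset (Subgroup G) := Finset.univ.filter fun U => IsPGroup p U ∧ U ≠ ⊥ ∧ k < (Fix U).card
  have hS0 : S.Nonempty := by
    refine ⟨Subgroup.zpowers (g₀ ^ (orderOf g₀ / p)), Finset.mem_filter.mpr ⟨Finset.mem_univ _, ?_, ?_, ?_⟩⟩
    · have ho : orderOf (g₀ ^ (orderOf g₀ / p)) = p :=
        orderOf_pow_orderOf_div (orderOf_pos g₀).ne' hpd
      exact IsPGroup.of_card (n := 1) (by rw [Nat.card_zpowers, ho, pow_one])
    · rw [Ne, Subgroup.zpowers_eq_bot]
      intro e
      have ho : orderOf (g₀ ^ (orderOf g₀ / p)) = p :=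
        orderOf_pow_orderOf_div (orderOf_pos g₀).ne' hpd
      rw [e, orderOf_one] at ho
      exact hp.ne_one ho.symm
    · refine lt_of_lt_of_le hs₀ (Finset.card_le_card fun x hx => (hFix _ x).mpr fun u hu => ?_)
      obtain ⟨i, rfl⟩ := hu
      exact Subgroup.zpow_mem (stabilizer G x)
        (Subgroup.pow_mem _ (show g₀ ∈ stabilizer G x from hfix₀ x hx) _) i
  obtain ⟨U, hUS, hmax⟩ := S.exists_max_image (fun U => Nat.card U) hS0
  obtain ⟨-, hUp, hU1, hUk⟩ := Finset.mem_filter.mp hUS
  set F := Fix U with hF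
  have hFn : F.card < Fintype.card α := by
    refine lt_of_le_of_ne F.card_le_univ fun e => hU1 ((Subgroup.eq_bot_iff_forall _).mpr fun u hu => ?_)
    have hu' : F = Finset.univ := Finset.eq_univ_of_card F e
    exact Subtype.ext (Equiv.ext fun x => (hFix U x).mp (by show x ∈ F; rw [hu']; exact Finset.mem_univ x) u hu)
  -- the normaliser acts on the fixed points
  set N := Subgroup.normalizer (U : Set G) with hN
  have hNF : ∀ n ∈ N, ∀ x, x ∈ F ↔ (n : G) • x ∈ F := by
    intro n hn x
    rw [hFix, hFix]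
    constructor
    · intro h u hu
      have := h _ ((Subgroup.mem_normalizer_iff''.mp hn u).mp hu)
      rwa [mul_smul, mul_smul, inv_smul_eq_iff] at this
    · intro h u hu
      have := h _ ((Subgroup.mem_normalizer_iff.mp hn u).mp hu)
      rwa [mul_smul, mul_smul, inv_smul_smul, smul_left_cancel_iff] at this
  let res : N →* Equiv.Perm ↥F :=
    { toFun := fun n => ((n : G) : Equiv.Perm α).subtypePerm fun x => (hNF n n.2 x).symm
      map_one' := Equiv.ext fun x => rfl
      map_mul' := fun m n => Equiv.ext fun x => rfl }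
  have hres : ∀ (n : N) (x : ↥F), (res n x : α) = (n : G) • (x : α) := fun n x => rfl
  refine ⟨F, res.range, hUk, hFn, ?_, ?_⟩
  swap
  · rintro _ ⟨n, rfl⟩
    exact ⟨_, (n : G).2, fun x => (hres n x).symm⟩
  have hkn : k ≤ Fintype.card α := by omega
  have hUfix : ∀ t : Finset α, t ⊆ F → U ≤ fixingSubgroup G (t : Set α) := fun t htF u hu => by
    rw [mem_fixingSubgroup_iff]
    exact fun x hx => (hFix U x).mp (htF (Finset.mem_coe.mp hx)) u hu
  by_cases hsyl : ∃ t : Finset α, t.card = k ∧ t ⊆ F ∧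
      ∀ P : Sylow p (fixingSubgroup G (t : Set α)), Nat.card P = Nat.card U
  · -- Witt
    obtain ⟨t₀, ht₀, -, hall⟩ := hsyl
    refine isMultiplyPretransitive_iff.mpr fun x y => ?_
    obtain ⟨g, hg⟩ := exists_map ht (a := fun i => (x i : α)) (b := fun i => (y i : α))
      (Subtype.val_injective.comp x.injective) (Subtype.val_injective.comp y.injective)
    set t := Finset.univ.image fun i => (y i : α) with htdef
    have htk : t.card = k := by
      rw [htdef, Finset.card_image_of_injective (f := fun i => (y i : α)) _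
        (Subtype.val_injective.comp y.injective), Finset.card_univ, Fintype.card_fin]
    have htF : t ⊆ F := fun z hz => by
      obtain ⟨i, -, rfl⟩ := Finset.mem_image.mp hz
      exact (y i).2
    have hU' : U.map (MulAut.conj g).toMonoidHom ≤ fixingSubgroup G (t : Set α) := by
      rintro _ ⟨u, hu, rfl⟩
      rw [mem_fixingSubgroup_iff]
      intro z hz
      obtain ⟨i, -, rfl⟩ := Finset.mem_image.mp (Finset.mem_coe.mp hz)
      simp only [MulEquiv.coe_toMonoidHom, MulAut.conj_apply, mul_smul]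
      rw [← hg i, inv_smul_smul, (hFix U _).mp (x i).2 u hu]
    have hcardU' : Nat.card (U.map (MulAut.conj g).toMonoidHom) = Nat.card U :=
      Subgroup.card_map_of_injective (MulAut.conj g).injective
    set T := fixingSubgroup G (t : Set α) with hT
    have hcardT : ∀ P : Sylow p T, Nat.card P = Nat.card U := by
      intro P
      obtain ⟨P₀⟩ : Nonempty (Sylow p (fixingSubgroup G (t₀ : Set α))) := inferInstance
      have h3 := card_fixing ht t₀ ht₀.le hkn
      rw [card_fixing ht t htk.le hkn, htk, ht₀] at h3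
      rw [← hall P₀, P.card_eq_multiplicity, P₀.card_eq_multiplicity, hT,
        Nat.eq_of_mul_eq_mul_left (Nat.descFactorial_pos.mpr hkn) h3]
    have hsy : ∀ V : Subgroup G, V ≤ T → IsPGroup p V → Nat.card V = Nat.card U →
        ∃ P : Sylow p T, (P : Subgroup T) = V.subgroupOf T := by
      intro V hV hVp hVc
      obtain ⟨P, hP⟩ := (hVp.of_equiv (Subgroup.subgroupOfEquivOfLe hV).symm).exists_le_sylow
      exact ⟨P, (Subgroup.eq_of_le_of_card_ge hP (by
        rw [hcardT P, Nat.card_congr (Subgroup.subgroupOfEquivOfLe hV).toEquiv, hVc])).symm⟩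
    obtain ⟨P, hP⟩ := hsy U (hUfix t htF) hUp rfl
    obtain ⟨P', hP'⟩ := hsy _ hU' (hUp.map _) hcardU'
    obtain ⟨q, hq⟩ := MulAction.exists_smul_eq T P' P
    have hnorm : (q : G) * g ∈ N := by
      refine Subgroup.mem_normalizer_iff.mpr fun u => ?_
      have hq' : (MulAut.conj q) • (P' : Subgroup T) = P := by
        rw [← hq]; rfl
      rw [hP, hP'] at hq'
      have key : ∀ u : G, u ∈ U → (q : G) * g * u * ((q : G) * g)⁻¹ ∈ U := fun u hu => by
        have h4 : (⟨g * u * g⁻¹, hU' ⟨u, hu, rfl⟩⟩ : T) ∈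
            (U.map (MulAut.conj g).toMonoidHom).subgroupOf T := ⟨u, hu, rfl⟩
        have h5 := (Subgroup.smul_mem_pointwise_smul_iff (a := MulAut.conj q)).mpr h4
        rw [hq'] at h5
        have h6 : (q : G) * (g * u * g⁻¹) * (q : G)⁻¹ ∈ U := Subgroup.mem_subgroupOf.mp h5
        rwa [show (q : G) * g * u * ((q : G) * g)⁻¹ = (q : G) * (g * u * g⁻¹) * (q : G)⁻¹ by group]
      refine ⟨key u, fun h => ?_⟩
      have hmem : U.map (MulAut.conj ((q : G) * g)).toMonoidHom = U := Subgroup.eq_of_le_of_card_ge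
        (by rintro _ ⟨v, hv, rfl⟩; exact key v hv)
        (Subgroup.card_map_of_injective (MulAut.conj _).injective).ge
      rw [← hmem] at h
      obtain ⟨v, hv, hve⟩ := h
      have : v = u := (MulAut.conj ((q : G) * g)).injective hve
      exact this ▸ hv
    refine ⟨⟨res ⟨_, hnorm⟩, ⟨_, hnorm⟩, rfl⟩, Function.Embedding.ext fun i => Subtype.ext ?_⟩
    change (res ⟨_, hnorm⟩ (x i) : α) = (y i : α)
    rw [hres, mul_smul]
    show (q : G) • g • (x i : α) = _
    rw [hg i]
    exact q.2 ⟨_, Finset.mem_coe.mpr (Finset.mem_image_of_mem _ (Finset.mem_univ i))⟩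
  · -- Gleason
    push Not at hsyl
    refine S0743.result res.range hp hk (by rw [Fintype.card_coe]; exact hUk) fun s hsk => ?_
    set t := s.map (Function.Embedding.subtype _) with htdef
    have htk : t.card = k := by rw [htdef, Finset.card_map, hsk]
    have htF : t ⊆ F := fun z hz => by
      obtain ⟨w, -, rfl⟩ := Finset.mem_map.mp hz
      exact w.2
    obtain ⟨P, hP⟩ := hsyl t htk htF
    have hU0 : IsPGroup p (U.subgroupOf (fixingSubgroup G (t : Set α))) :=
      hUp.of_equiv (Subgroup.subgroupOfEquivOfLe (hUfix t htF)).symm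
    obtain ⟨Q, hQ⟩ := hU0.exists_le_sylow
    have hne : U.subgroupOf (fixingSubgroup G (t : Set α)) ≠ Q := fun e => hP (by
      rw [P.card_eq_multiplicity, ← Q.card_eq_multiplicity, ← e,
        Nat.card_congr (Subgroup.subgroupOfEquivOfLe (hUfix t htF)).toEquiv])
    -- normalisers grow in p-groups
    set U₁ := U.subgroupOf (fixingSubgroup G (t : Set α)) with hU₁
    have hlt : U₁.subgroupOf (Q : Subgroup _) < ⊤ := lt_top_iff_ne_top.mpr fun e =>
      hne (le_antisymm hQ (Subgroup.subgroupOf_eq_top.mp e))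
    haveI : Group.IsNilpotent (Q : Subgroup (fixingSubgroup G (t : Set α))) := Q.2.isNilpotent
    have hgrow := Group.normalizerCondition_of_isNilpotent (h := Q.2.isNilpotent) _ hlt
    obtain ⟨v, hvN, hvU⟩ := SetLike.exists_of_lt hgrow
    -- the larger group
    set W := U ⊔ Subgroup.zpowers ((v : fixingSubgroup G (t : Set α)) : G) with hW
    have hvnorm : ((v : fixingSubgroup G (t : Set α)) : G) ∈ N := by
      refine Subgroup.mem_normalizer_iff.mpr fun u => ?_
      have key : ∀ u : G, u ∈ U → ∀ v' : (Q : Subgroup (fixingSubgroup G (t : Set α))),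
          v' ∈ Subgroup.normalizer ((U₁.subgroupOf (Q : Subgroup _)) : Set _) →
          ((v' : fixingSubgroup G (t : Set α)) : G) * u * ((v' : fixingSubgroup G (t : Set α)) : G)⁻¹ ∈ U := by
        intro u hu v' hv'
        have hu1 : (⟨u, hUfix t htF hu⟩ : fixingSubgroup G (t : Set α)) ∈ U₁ := hu
        have := (Subgroup.mem_normalizer_iff.mp hv' ⟨_, hQ hu1⟩).mp hu1
        exact this
      refine ⟨fun hu => key u hu v hvN, fun h => ?_⟩
      have := key _ h v⁻¹ (Subgroup.inv_mem _ hvN)
      simpa [mul_assoc] using this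
    have hWQ : W ≤ (Q : Subgroup _).map (fixingSubgroup G (t : Set α)).subtype := by
      refine sup_le (fun u hu => ⟨⟨u, hUfix t htF hu⟩, hQ hu, rfl⟩) ?_
      rw [Subgroup.zpowers_le]
      exact ⟨_, v.2, rfl⟩
    have hWp : IsPGroup p W := ((Q.2.map _).to_le hWQ)
    have hWN : W ≤ N := sup_le Subgroup.le_normalizer (Subgroup.zpowers_le.mpr hvnorm)
    have hUW : U < W := lt_of_le_of_ne le_sup_left fun e => hvU (by
      show ((v : fixingSubgroup G (t : Set α)) : G) ∈ U
      rw [e]; exact Subgroup.mem_sup_right (Subgroup.mem_zpowers _))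
    have hWfix : (Fix W).card ≤ k := by
      by_contra hlt'
      have h2 := hmax W (Finset.mem_filter.mpr ⟨Finset.mem_univ _, hWp, fun e => hU1 (le_bot_iff.mp
        (e ▸ hUW.le)), by omega⟩)
      exact hUW.ne (Subgroup.eq_of_le_of_card_ge hUW.le h2)
    have htW : t ⊆ Fix W := fun z hz => (hFix W z).mpr fun w hw => by
      obtain ⟨w', -, rfl⟩ := hWQ hw
      exact w'.2 ⟨z, Finset.mem_coe.mpr hz⟩
    have hfixW : Fix W = t := (Finset.eq_of_subset_of_card_le htW (by omega)).symm
    refine ⟨(W.subgroupOf N).map res.rangeRestrict,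
      ((hWp.of_equiv (Subgroup.subgroupOfEquivOfLe hWN).symm).map _), ?_⟩
    ext z
    rw [mem_fixedPoints, Finset.mem_coe]
    constructor
    · intro hz
      have : (z : α) ∈ Fix W := (hFix W _).mpr fun w hw => by
        have h7 := hz ⟨res.rangeRestrict ⟨w, hWN hw⟩, Subgroup.mem_map_of_mem _ hw⟩
        exact congrArg Subtype.val h7
      rw [hfixW, htdef] at this
      obtain ⟨z', hz', he⟩ := Finset.mem_map.mp this
      exact (Subtype.ext he : z' = z) ▸ hz'
    · rintro hz ⟨_, ⟨w, hw, rfl⟩⟩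
      refine Subtype.ext ?_
      show (res w z : α) = z
      rw [hres]
      exact (hFix W _).mp (htW (Finset.mem_map_of_mem _ hz)) _ hw

/-- In a k-transitive group some set of k + 1 points has all its even permutations induced. -/
theorem exists_alternating_induced {α : Type*} [Fintype α] [DecidableEq α] (G : Subgroup (Equiv.Perm α))
    {k : ℕ} (hk : 4 ≤ k) (hkn : k < Fintype.card α) (ht : IsMultiplyPretransitive G α k) :
    ∃ Δ : Finset α, Δ.card = k + 1 ∧ ∀ σ ∈ alternatingGroup ↥Δ, σ ∈ induced G Δ := by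
  suffices H : ∀ (n : ℕ) (β : Finset α) (G' : Subgroup (Equiv.Perm ↥β)), β.card = n → k < n →
      IsMultiplyPretransitive G' ↥β k →
      (∀ h ∈ G', ∃ g ∈ G, ∀ x : ↥β, g (x : α) = (h x : α)) →
      ∃ Δ : Finset α, Δ.card = k + 1 ∧ ∀ σ ∈ alternatingGroup ↥Δ, σ ∈ induced G Δ by
    by_cases hsf : Semifix G α k
    · rcases small_cases hk hkn ht hsf with h | h | ⟨-, hn, h1⟩
      · obtain ⟨Δ, -, hΔ⟩ := Finset.exists_subset_card_eq (s := (Finset.univ : Finset α)) (n := k + 1)
          (by rw [Finset.card_univ]; omega)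
        exact ⟨Δ, hΔ, fun σ hσ => even_mem_induced h Δ σ hσ⟩
      · obtain ⟨Δ, -, hΔ⟩ := Finset.exists_subset_card_eq (s := (Finset.univ : Finset α)) (n := k + 1)
          (by rw [Finset.card_univ]; omega)
        exact ⟨Δ, hΔ, fun σ _ => induced_eq_top h (by omega) Δ hΔ.le ▸ Subgroup.mem_top σ⟩
      · obtain ⟨Δ, hΔ, h2⟩ := induced_eq_top_sharp hk hn ht hsf h1
        exact ⟨Δ, hΔ, fun σ _ => h2 ▸ Subgroup.mem_top σ⟩
    · obtain ⟨F, G', hF, -, hG', hlift⟩ := exists_smaller (by omega) ht hsf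
      exact H _ F G' rfl hF hG' hlift
  intro n
  induction n using Nat.strong_induction_on with
  | _ n ih =>
  intro β G' hβ hkn' ht' hlift
  by_cases hsf : Semifix G' ↥β k
  · obtain ⟨Δ', hΔ', hind⟩ : ∃ Δ' : Finset ↥β, Δ'.card = k + 1 ∧
        ∀ σ ∈ alternatingGroup ↥Δ', σ ∈ induced G' Δ' := by
      rcases small_cases hk (by rw [Fintype.card_coe]; omega) ht' hsf with h | h | ⟨-, hn, h1⟩
      · obtain ⟨Δ, -, hΔ⟩ := Finset.exists_subset_card_eq (s := (Finset.univ : Finset ↥β)) (n := k + 1)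
          (by rw [Finset.card_univ, Fintype.card_coe]; omega)
        exact ⟨Δ, hΔ, fun σ hσ => even_mem_induced h Δ σ hσ⟩
      · obtain ⟨Δ, -, hΔ⟩ := Finset.exists_subset_card_eq (s := (Finset.univ : Finset ↥β)) (n := k + 1)
          (by rw [Finset.card_univ, Fintype.card_coe]; omega)
        exact ⟨Δ, hΔ, fun σ _ => induced_eq_top h (by rw [Fintype.card_coe]; omega) Δ hΔ.le ▸
          Subgroup.mem_top σ⟩
      · obtain ⟨Δ, hΔ, h2⟩ := induced_eq_top_sharp hk hn ht' hsf h1
        exact ⟨Δ, hΔ, fun σ _ => h2 ▸ Subgroup.mem_top σ⟩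
    refine ⟨Δ'.map (Function.Embedding.subtype _), by rw [Finset.card_map, hΔ'], fun σ hσ => ?_⟩
    let e : ↥Δ' ≃ ↥(Δ'.map (Function.Embedding.subtype fun x => x ∈ β)) :=
      Equiv.ofBijective (fun y => ⟨((y : ↥β) : α), Finset.mem_map_of_mem _ y.2⟩)
        ⟨fun a b h => by
          injection h with h'
          exact Subtype.ext (Subtype.ext h'), fun z => by
          obtain ⟨w, hw, he⟩ := Finset.mem_map.mp z.2
          exact ⟨⟨w, hw⟩, Subtype.ext he⟩⟩
    obtain ⟨h, hh, hhx⟩ := hind (e.symm.permCongr σ) (Equiv.Perm.mem_alternatingGroup.mpr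
      ((Equiv.Perm.sign_permCongr _ σ).trans (Equiv.Perm.mem_alternatingGroup.mp hσ)))
    obtain ⟨g, hg, hgx⟩ := hlift h hh
    refine ⟨g, hg, fun z => ?_⟩
    obtain ⟨w, rfl⟩ := e.surjective z
    have h8 : g (((w : ↥β) : α)) = ((h (w : ↥β) : ↥β) : α) := hgx _
    show g (((w : ↥β) : α)) = _
    rw [h8, hhx w]
    have h9 : e (e.symm.permCongr σ w) = σ (e w) := by
      simp [Equiv.permCongr_apply]
    exact congrArg Subtype.val h9
  · obtain ⟨F, G'', hF, hFn, hG'', hlift''⟩ := exists_smaller (by omega) ht' hsf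
    rw [Fintype.card_coe, hβ] at hFn
    -- flatten the nested subtype
    set F₁ := F.map (Function.Embedding.subtype fun x => x ∈ β) with hF₁
    let e : ↥F ≃ ↥F₁ :=
      Equiv.ofBijective (fun y => ⟨((y : ↥β) : α), Finset.mem_map_of_mem _ y.2⟩)
        ⟨fun a b h => by
          injection h with h'
          exact Subtype.ext (Subtype.ext h'), fun z => by
          obtain ⟨w, hw, he⟩ := Finset.mem_map.mp z.2
          exact ⟨⟨w, hw⟩, Subtype.ext he⟩⟩
    refine ih F.card hFn F₁ (G''.map e.permCongrHom.toMonoidHom) (by rw [hF₁, Finset.card_map]) hF ?_ ?_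
    · refine isMultiplyPretransitive_iff.mpr fun x y => ?_
      obtain ⟨⟨g, hg⟩, hgx⟩ := exists_map hG'' (a := fun i => e.symm (x i)) (b := fun i => e.symm (y i))
        (e.symm.injective.comp x.injective) (e.symm.injective.comp y.injective)
      refine ⟨⟨e.permCongr g, g, hg, rfl⟩, Function.Embedding.ext fun i => ?_⟩
      have h' : g (e.symm (x i)) = e.symm (y i) := hgx i
      show e.permCongr g (x i) = y i
      rw [Equiv.permCongr_apply, h', Equiv.apply_symm_apply]
    · rintro _ ⟨g'', hg'', rfl⟩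
      obtain ⟨g', hg', hg'x⟩ := hlift'' g'' hg''
      obtain ⟨g, hg, hgx⟩ := hlift g' hg'
      refine ⟨g, hg, fun z => ?_⟩
      obtain ⟨w, rfl⟩ := e.surjective z
      show g (((w : ↥β) : α)) = ((e.permCongr g'' (e w) : ↥F₁) : α)
      rw [hgx, hg'x, Equiv.permCongr_apply, Equiv.symm_apply_apply]
      rfl

end Cfsg.Agent.PermGroups.LW
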