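/-
The Livingstone–Wagner theorem.
-/
import Cfsg.Agent.PermGroups.LW.Homogeneous
import Cfsg.Agent.PermGroups.LW.Induced
import Cfsg.Agent.Coprime.Generation

set_option autoImplicit false
set_option linter.style.haveILetI false
set_option maxHeartbeats 1000000

namespace Cfsg.Agent.PermGroups.LW

open MulAction SubMulAction
open scoped Pointwise

variable {α : Type*} [Fintype α] [DecidableEq α] {G : Subgroup (Equiv.Perm α)} {k : ℕ}

/-- The permutations induced on two sets in one orbit correspond. -/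
theorem induced_transport {g : G} {s t : Finset α} (hg : g • s = t) (σ : Equiv.Perm ↥t)
    (e : ↥s ≃ ↥t) (he : ∀ x : ↥s, (e x : α) = g • (x : α)) :
    σ ∈ induced G t ↔ e.symm.permCongr σ ∈ induced G s := by
  constructor
  · rintro ⟨h, hh, hx⟩
    refine ⟨(g⁻¹ * ⟨h, hh⟩ * g : G), (g⁻¹ * ⟨h, hh⟩ * g : G).2, fun x => ?_⟩
    show g⁻¹ • (⟨h, hh⟩ : G) • g • (x : α) = _
    rw [← he, inv_smul_eq_iff]
    show h (e x : α) = _
    rw [hx, Equiv.permCongr_apply, Equiv.symm_symm, ← he, Equiv.apply_symm_apply]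
  · rintro ⟨h, hh, hx⟩
    refine ⟨(g * ⟨h, hh⟩ * g⁻¹ : G), (g * ⟨h, hh⟩ * g⁻¹ : G).2, fun x => ?_⟩
    show g • (⟨h, hh⟩ : G) • g⁻¹ • (x : α) = _
    obtain ⟨z, rfl⟩ := e.surjective x
    rw [he, inv_smul_smul]
    show g • h (z : α) = _
    rw [hx, ← he, Equiv.permCongr_apply, Equiv.symm_symm, Equiv.apply_symm_apply]

theorem exists_transport {g : G} {s t : Finset α} (hg : g • s = t) :
    ∃ e : ↥s ≃ ↥t, ∀ x : ↥s, (e x : α) = g • (x : α) := by
  subst hg
  refine ⟨Equiv.ofBijective (fun x => ⟨g • (x : α), Finset.smul_mem_smul_finset x.2⟩) ⟨fun a b h => ?_, fun y => ?_⟩,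
    fun x => rfl⟩
  · injection h with h'
    exact Subtype.ext (MulAction.injective g h')
  · obtain ⟨z, hz, hzy⟩ := Finset.mem_smul_finset.mp y.2
    exact ⟨⟨z, hz⟩, Subtype.ext hzy⟩

theorem four_identities {β : Type*} [DecidableEq β] {A B C D : β} (h1 : A ≠ B) (h2 : A ≠ C) (h3 : A ≠ D)
    (h4 : B ≠ C) (h5 : B ≠ D) (h6 : C ≠ D) :
    (Equiv.swap A B * Equiv.swap C D) * (Equiv.swap A C * Equiv.swap B D) =
        (Equiv.swap A C * Equiv.swap B D) * (Equiv.swap A B * Equiv.swap C D) ∧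
      (Equiv.swap A B * Equiv.swap C D) * (Equiv.swap A B * Equiv.swap C D) = 1 ∧
      (Equiv.swap A C * Equiv.swap B D) * (Equiv.swap A C * Equiv.swap B D) = 1 := by
  refine ⟨?_, ?_, ?_⟩ <;> ext z <;>
    rcases eq_or_ne z A with rfl | ha <;> rcases eq_or_ne z B with rfl | hb <;>
    rcases eq_or_ne z C with rfl | hc <;> rcases eq_or_ne z D with rfl | hd <;>
    simp_all [Equiv.swap_apply_of_ne_of_ne, ne_comm]

/-- A k-homogeneous group of degree at least 2k is k-transitive for k at least five. -/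
theorem livingstone_wagner (hk : 5 ≤ k) (hkn : 2 * k ≤ Fintype.card α)
    (hh : IsPretransitive G (Set.powersetCard α k)) : IsMultiplyPretransitive G α k := by
  classical
  by_contra hnt
  have ht := transitive_of_homogeneous (show 2 ≤ k by omega) hkn hh
  obtain ⟨Δ, hΔ, hA⟩ := exists_alternating_induced G (show 4 ≤ k - 1 by omega) (by omega) ht
  rw [show k - 1 + 1 = k by omega] at hΔ
  -- every k-set carries the alternating group
  have hall : ∀ s : Finset α, s.card = k → ∀ σ : Equiv.Perm ↥s,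
      (σ ∈ induced G s ↔ σ ∈ alternatingGroup ↥s) := by
    intro s hs σ
    have hev : ∀ (t : Finset α), t.card = k → ∀ τ : Equiv.Perm ↥t, τ ∈ alternatingGroup ↥t → τ ∈ induced G t := by
      intro t htk τ hτ
      obtain ⟨g, hg⟩ := hh.exists_smul_eq ⟨Δ, hΔ⟩ ⟨t, htk⟩
      have hg' : g • Δ = t := congrArg Subtype.val hg
      obtain ⟨e, he⟩ := exists_transport hg'
      rw [induced_transport hg' τ e he]
      exact hA _ (Equiv.Perm.mem_alternatingGroup.mpr
        ((Equiv.Perm.sign_permCongr _ τ).trans (Equiv.Perm.mem_alternatingGroup.mp hτ)))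
    refine ⟨fun hσ => ?_, hev s hs σ⟩
    by_contra hodd
    refine hnt (isMultiplyPretransitive_iff.mpr fun x y => ?_)
    have htop : ∀ τ : Equiv.Perm ↥s, τ ∈ induced G s := fun τ => by
      rw [Equiv.Perm.mem_alternatingGroup] at hodd
      have hσ1 : Equiv.Perm.sign σ = -1 := (Int.units_eq_one_or _).resolve_left hodd
      rcases Int.units_eq_one_or (Equiv.Perm.sign τ) with e | e
      · exact hev s hs τ (Equiv.Perm.mem_alternatingGroup.mpr e)
      · have h1 := hev s hs (τ * σ⁻¹) (Equiv.Perm.mem_alternatingGroup.mpr (by simp [e, hσ1]))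
        simpa using Subgroup.mul_mem _ h1 hσ
    have hi : ∀ z : Fin k ↪ α, (Finset.univ.map z).card = k := fun z => by simp
    obtain ⟨g, hg⟩ := hh.exists_smul_eq ⟨Finset.univ.map x, hi x⟩ ⟨s, hs⟩
    obtain ⟨g', hg'⟩ := hh.exists_smul_eq ⟨Finset.univ.map y, hi y⟩ ⟨s, hs⟩
    have hmem : ∀ (z : Fin k ↪ α) (u : G), u • (⟨Finset.univ.map z, hi z⟩ : Set.powersetCard α k) = ⟨s, hs⟩ →
        ∀ i, u • z i ∈ s := fun z u hu i => by
      have e' : u • Finset.univ.map z = s := congrArg Subtype.val hu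
      rw [← e']
      exact Finset.smul_mem_smul_finset (Finset.mem_map_of_mem _ (Finset.mem_univ i))
    have hb : ∀ (z : Fin k ↪ α) (u : G) (hu : ∀ i, u • z i ∈ s),
        Function.Bijective fun i => (⟨u • z i, hu i⟩ : ↥s) := fun z u hu =>
      (Nat.bijective_iff_injective_and_card _).mpr ⟨fun a b h => z.injective (MulAction.injective u
        (congrArg Subtype.val h)), by rw [Nat.card_eq_fintype_card, Nat.card_eq_fintype_card,
          Fintype.card_fin, Fintype.card_coe, hs]⟩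
    let ex := Equiv.ofBijective _ (hb x g (hmem x g hg))
    let ey := Equiv.ofBijective _ (hb y g' (hmem y g' hg'))
    obtain ⟨m, hm, hmx⟩ := htop (ex.symm.trans ey)
    refine ⟨g'⁻¹ * ⟨m, hm⟩ * g, Function.Embedding.ext fun i => ?_⟩
    change (g'⁻¹ * ⟨m, hm⟩ * g) • x i = y i
    rw [mul_smul, mul_smul, inv_smul_eq_iff]
    show m (ex i : α) = _
    rw [hmx, Equiv.trans_apply, Equiv.symm_apply_apply]
    rfl
  -- no element acts as a transposition on a k-set
  have hswap : ∀ (g : G) (x y : α), x ≠ y → g • x = y → g • y = x → ∀ F : Finset α, F.card = k - 2 →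
      x ∉ F → y ∉ F → (∀ z ∈ F, g • z = z) → False := by
    intro g x y hxy hgx hgy F hF hxF hyF hfix
    have hs : (insert x (insert y F)).card = k := by
      rw [Finset.card_insert_of_notMem (by simp [hxy, hxF]), Finset.card_insert_of_notMem hyF, hF]; omega
    have hx : x ∈ insert x (insert y F) := Finset.mem_insert_self _ _
    have hy : y ∈ insert x (insert y F) := Finset.mem_insert_of_mem (Finset.mem_insert_self _ _)
    have h1 := (hall _ hs (Equiv.swap ⟨x, hx⟩ ⟨y, hy⟩)).mp ⟨g, g.2, fun z => by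
      show g • (z : α) = _
      rw [Equiv.swap_apply_def]
      have hz := z.2
      simp only [Finset.mem_insert] at hz
      split_ifs with e1 e2
      · rw [e1]; exact hgx
      · rw [e2]; exact hgy
      · rcases hz with e | e | e
        · exact absurd (Subtype.ext e) e1
        · exact absurd (Subtype.ext e) e2
        · exact hfix _ e⟩
    rw [Equiv.Perm.mem_alternatingGroup, Equiv.Perm.sign_swap (fun e => hxy (congrArg Subtype.val e))] at h1
    exact absurd h1 (by decide)
  -- a base of k - 1 points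
  obtain ⟨B, -, hB⟩ := Finset.exists_subset_card_eq (s := (Finset.univ : Finset α)) (n := k - 1)
    (by rw [Finset.card_univ]; omega)
  obtain ⟨s4, hs4, hs4c⟩ := Finset.exists_subset_card_eq (s := B) (n := 4) (by omega)
  obtain ⟨a, b, c, d, h4, hne⟩ : ∃ a b c d, (a ∈ s4 ∧ b ∈ s4 ∧ c ∈ s4 ∧ d ∈ s4) ∧
      (a ≠ b ∧ a ≠ c ∧ a ≠ d ∧ b ≠ c ∧ b ≠ d ∧ c ≠ d) := by
    obtain ⟨x₄⟩ : Nonempty (Fin 4 ↪ ↥s4) := Function.Embedding.nonempty_of_card_le (by simp [hs4c])
    exact ⟨x₄ 0, x₄ 1, x₄ 2, x₄ 3, ⟨(x₄ 0).2, (x₄ 1).2, (x₄ 2).2, (x₄ 3).2⟩, by simp⟩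
  have haB : a ∈ B ∧ b ∈ B ∧ c ∈ B ∧ d ∈ B := ⟨hs4 h4.1, hs4 h4.2.1, hs4 h4.2.2.1, hs4 h4.2.2.2⟩
  have lift : ∀ σ : Equiv.Perm ↥B, ∃ g : G, ∀ z : ↥B, g • (z : α) = (σ z : α) := fun σ => by
    obtain ⟨g, hg, hgx⟩ := (mem_induced (G := G)).mp
      ((induced_eq_top ht (by omega) B (le_of_eq hB)).symm ▸ Subgroup.mem_top σ)
    exact ⟨⟨g, hg⟩, hgx⟩
  set A : ↥B := ⟨a, haB.1⟩
  set Bp : ↥B := ⟨b, haB.2.1⟩
  set C : ↥B := ⟨c, haB.2.2.1⟩
  set D : ↥B := ⟨d, haB.2.2.2⟩
  obtain ⟨τ, hτ⟩ := lift (Equiv.swap A Bp)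
  have hτa : τ • a = b := by have := hτ A; rwa [Equiv.swap_apply_left] at this
  have hτb : τ • b = a := by have := hτ Bp; rwa [Equiv.swap_apply_right] at this
  have hτz : ∀ z ∈ B, z ≠ a → z ≠ b → τ • z = z := fun z hz h1 h2 => by
    have := hτ ⟨z, hz⟩
    rwa [Equiv.swap_apply_of_ne_of_ne (fun e => h1 (congrArg Subtype.val e))
      (fun e => h2 (congrArg Subtype.val e))] at this
  set T := fixingSubgroup G (B : Set α) with hT
  have hTm : ∀ g : G, g ∈ T ↔ ∀ z ∈ B, g • z = z := fun g => by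
    rw [hT, mem_fixingSubgroup_iff]; simp
  -- a lift of a transposition followed by T fixes no further point
  have hodd : ∀ (g : G) (x : α), x ∉ B → g • x = x → g • a = b → g • b = a →
      (∀ z ∈ B, z ≠ a → z ≠ b → g • z = z) → False := by
    intro g x hx hgx h1 h2 h3
    refine hswap g a b hne.1 h1 h2 (insert x ((B.erase a).erase b)) ?_ ?_ ?_ fun z hz => ?_
    · rw [Finset.card_insert_of_notMem (fun h => hx (Finset.mem_of_mem_erase (Finset.mem_of_mem_erase h))),
        Finset.card_erase_of_mem (Finset.mem_erase.mpr ⟨hne.1.symm, haB.2.1⟩),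
        Finset.card_erase_of_mem haB.1, hB]
      omega
    · simp only [Finset.mem_insert, Finset.mem_erase, not_or]
      exact ⟨fun e => hx (e ▸ haB.1), fun h => h.2.1 rfl⟩
    · simp only [Finset.mem_insert, Finset.mem_erase, not_or]
      exact ⟨fun e => hx (e ▸ haB.2.1), fun h => h.1 rfl⟩
    · simp only [Finset.mem_insert, Finset.mem_erase] at hz
      rcases hz with rfl | ⟨hzb, hza, hzB⟩
      · exact hgx
      · exact h3 z hzB hza hzb
  have hTsep : ∀ x, x ∉ B → ∀ t ∈ T, τ • t • x ≠ x := fun x hx t htT e => by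
    refine hodd (τ * t) x hx (by rwa [mul_smul]) ?_ ?_ fun z hz h1 h2 => ?_
    · rw [mul_smul, (hTm t).mp htT a haB.1, hτa]
    · rw [mul_smul, (hTm t).mp htT b haB.2.1, hτb]
    · rw [mul_smul, (hTm t).mp htT z hz, hτz z hz h1 h2]
  -- T has two orbits outside
  have horb : ∀ x y, x ∉ B → y ∉ B → (∃ t ∈ T, t • x = y) ∨ ∃ t ∈ T, τ • t • x = y := by
    intro x y hx hy
    have hsx : (insert x B).card = k := by rw [Finset.card_insert_of_notMem hx, hB]; omega
    have hsy : (insert y B).card = k := by rw [Finset.card_insert_of_notMem hy, hB]; omega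
    obtain ⟨g, hg⟩ := hh.exists_smul_eq ⟨_, hsx⟩ ⟨_, hsy⟩
    obtain ⟨e, he⟩ := exists_transport (g := g) (s := insert x B) (t := insert y B) (congrArg Subtype.val hg)
    let ι : ↥(insert x B) → ↥(insert y B) := fun z =>
      if hz : (z : α) = x then ⟨y, Finset.mem_insert_self _ _⟩
      else ⟨z, Finset.mem_insert_of_mem ((Finset.mem_insert.mp z.2).resolve_left hz)⟩
    have hι : Function.Bijective ι := by
      refine (Nat.bijective_iff_injective_and_card ι).mpr ⟨fun p q h => ?_, by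
        rw [Nat.card_eq_fintype_card, Nat.card_eq_fintype_card, Fintype.card_coe, Fintype.card_coe, hsx, hsy]⟩
      simp only [ι] at h
      split_ifs at h with h1 h2 h2
      · exact Subtype.ext (h1.trans h2.symm)
      · exact absurd (Finset.mem_insert.mp q.2 |>.resolve_left h2)
          (by rw [← congrArg Subtype.val h]; exact hy)
      · exact absurd (Finset.mem_insert.mp p.2 |>.resolve_left h1)
          (by rw [congrArg Subtype.val h]; exact hy)
      · exact Subtype.ext (congrArg Subtype.val h :)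
    let sw : Equiv.Perm ↥(insert y B) :=
      Equiv.swap ⟨a, Finset.mem_insert_of_mem haB.1⟩ ⟨b, Finset.mem_insert_of_mem haB.2.1⟩
    have hsw : Equiv.Perm.sign sw = -1 :=
      Equiv.Perm.sign_swap (fun h => hne.1 (Subtype.ext_iff.mp h))
    let π : Equiv.Perm ↥(insert y B) := e.symm.trans (Equiv.ofBijective ι hι)
    have hyB : ∀ z ∈ B, z ≠ x := fun z hz e' => hx (e' ▸ hz)
    have comp : ∀ π' : Equiv.Perm ↥(insert y B), π' ∈ alternatingGroup ↥(insert y B) →
        ∃ h : G, ∀ z : ↥(insert x B), h • g • (z : α) = (π' (e z) : α) := by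
      intro π' hπ'
      obtain ⟨h, hh', hhx⟩ := (hall _ hsy π').mpr hπ'
      exact ⟨⟨h, hh'⟩, fun z => by rw [← he]; exact hhx (e z)⟩
    rcases Int.units_eq_one_or (Equiv.Perm.sign π) with hπ | hπ
    · obtain ⟨h, hhz⟩ := comp π (Equiv.Perm.mem_alternatingGroup.mpr hπ)
      refine Or.inl ⟨h * g, (hTm _).mpr fun z hz => ?_, ?_⟩
      · rw [mul_smul, hhz ⟨z, Finset.mem_insert_of_mem hz⟩]
        simp only [π, Equiv.trans_apply, Equiv.symm_apply_apply, Equiv.ofBijective_apply, ι]
        rw [dif_neg (hyB z hz)]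
      · rw [mul_smul, hhz ⟨x, Finset.mem_insert_self _ _⟩]
        simp [π, ι]
    · obtain ⟨h, hhz⟩ := comp (sw * π) (Equiv.Perm.mem_alternatingGroup.mpr (by simp [hsw, hπ]))
      refine Or.inr ⟨τ⁻¹ * (h * g), (hTm _).mpr fun z hz => ?_, ?_⟩
      · rw [mul_smul, inv_smul_eq_iff, mul_smul, hhz ⟨z, Finset.mem_insert_of_mem hz⟩, Equiv.Perm.mul_apply]
        simp only [π, Equiv.trans_apply, Equiv.symm_apply_apply, Equiv.ofBijective_apply, ι]
        rw [dif_neg (hyB z hz)]
        simp only [sw, Equiv.swap_apply_def, Subtype.ext_iff]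
        split_ifs with e1 e2
        · rw [e1, hτa]
        · rw [e2, hτb]
        · rw [hτz z hz e1 e2]
      · rw [mul_smul, smul_inv_smul, mul_smul, hhz ⟨x, Finset.mem_insert_self _ _⟩, Equiv.Perm.mul_apply]
        simp only [π, Equiv.trans_apply, Equiv.symm_apply_apply, Equiv.ofBijective_apply, ι]
        rw [dif_pos trivial]
        simp only [sw, Equiv.swap_apply_def, Subtype.ext_iff]
        rw [if_neg (fun h' : y = a => hy (h' ▸ haB.1)), if_neg (fun h' : y = b => hy (h' ▸ haB.2.1))]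
  -- T has odd order
  have hTodd : Odd (Nat.card T) := by
    by_contra he
    rw [Nat.not_odd_iff_even] at he
    haveI : Fact (Nat.Prime 2) := ⟨Nat.prime_two⟩
    obtain ⟨u, hu⟩ := exists_prime_orderOf_dvd_card' 2 (even_iff_two_dvd.mp he)
    have huu : (u : G) * u = 1 := by
      have := congrArg Subtype.val (pow_orderOf_eq_one u)
      rwa [hu, SubmonoidClass.coe_pow, sq] at this
    obtain ⟨x, hx⟩ : ∃ x, (u : G) • x ≠ x := by
      by_contra! hc
      have : u = 1 := Subtype.ext (Subtype.ext (Equiv.ext hc))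
      rw [this, orderOf_one] at hu
      norm_num at hu
    have hxx : (u : G) • (u : G) • x = x := by rw [← mul_smul, huu, one_smul]
    have hxB : x ∉ B := fun h => hx ((hTm u).mp u.2 x h)
    have huxB : (u : G) • x ∉ B := fun h => hx (by rw [← (hTm u).mp u.2 _ h]; exact hxx)
    obtain ⟨F, hFB, hF⟩ := Finset.exists_subset_card_eq (s := B) (n := k - 2) (by omega)
    exact hswap u x ((u : G) • x) hx.symm rfl hxx F hF (fun h => hxB (hFB h)) (fun h => huxB (hFB h))
      fun z hz => (hTm u).mp u.2 z (hFB hz)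
  -- the lifts of the four group
  let σ1 : Equiv.Perm ↥B := Equiv.swap A Bp * Equiv.swap C D
  let σ2 : Equiv.Perm ↥B := Equiv.swap A C * Equiv.swap Bp D
  let stB : Subgroup G := stabilizer G (B : Finset α)
  let res : stB →* Equiv.Perm ↥B :=
    { toFun := fun g => ((g : G) : Equiv.Perm α).subtypePerm fun z => by
        have e : (g : G) • B = B := g.2
        conv_lhs => rw [← e]
        exact Finset.smul_mem_smul_finset_iff (g : G)
      map_one' := Equiv.ext fun z => rfl
      map_mul' := fun p q => Equiv.ext fun z => rfl }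
  have hres : ∀ (g : stB) (z : ↥B), (res g z : α) = (g : G) • (z : α) := fun _ _ => rfl
  have hsurj : Function.Surjective res := fun σ => by
    obtain ⟨g, hg⟩ := lift σ
    have hgB : g • B = B := Finset.eq_of_subset_of_card_le (fun z hz => by
      obtain ⟨w, hw, rfl⟩ := Finset.mem_smul_finset.mp hz
      rw [hg ⟨w, hw⟩]; exact (σ ⟨w, hw⟩).2) (Finset.card_smul_finset g B).ge
    exact ⟨⟨g, hgB⟩, Equiv.ext fun z => Subtype.ext ((hres _ z).trans (hg z))⟩
  have hAB : A ≠ Bp ∧ A ≠ C ∧ A ≠ D ∧ Bp ≠ C ∧ Bp ≠ D ∧ C ≠ D := by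
    obtain ⟨h1, h2, h3, h4, h5, h6⟩ := hne
    exact ⟨fun e => h1 (Subtype.ext_iff.mp e), fun e => h2 (Subtype.ext_iff.mp e),
      fun e => h3 (Subtype.ext_iff.mp e), fun e => h4 (Subtype.ext_iff.mp e),
      fun e => h5 (Subtype.ext_iff.mp e), fun e => h6 (Subtype.ext_iff.mp e)⟩
  have hσA : σ1 A = Bp ∧ σ2 A = C := by
    obtain ⟨h1, h2, h3, h4, h5, h6⟩ := hAB
    exact ⟨by rw [Equiv.Perm.mul_apply, Equiv.swap_apply_of_ne_of_ne h2 h3, Equiv.swap_apply_left],
      by rw [Equiv.Perm.mul_apply, Equiv.swap_apply_of_ne_of_ne h1 h3, Equiv.swap_apply_left]⟩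
  have hσcomm : σ1 * σ2 = σ2 * σ1 ∧ σ1 * σ1 = 1 ∧ σ2 * σ2 = 1 := by
    obtain ⟨h1, h2, h3, h4, h5, h6⟩ := hAB
    exact four_identities h1 h2 h3 h4 h5 h6
  obtain ⟨hc12, hs1, hs2⟩ := hσcomm
  let V : Subgroup (Equiv.Perm ↥B) := Subgroup.closure {σ1, σ2}
  have hV : ∀ σ, σ ∈ V → σ = 1 ∨ σ = σ1 ∨ σ = σ2 ∨ σ = σ1 * σ2 := by
    intro σ hσ
    induction hσ using Subgroup.closure_induction with
    | mem x hx =>
      rcases hx with rfl | hx
      · exact Or.inr (Or.inl rfl)
      · exact Or.inr (Or.inr (Or.inl hx))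
    | one => exact Or.inl rfl
    | mul x y _ _ hx hy =>
      have h21 : ∀ z, σ2 * (σ1 * z) = σ1 * (σ2 * z) := fun z => by rw [← mul_assoc, ← hc12, mul_assoc]
      have h11 : ∀ z, σ1 * (σ1 * z) = z := fun z => by rw [← mul_assoc, hs1, one_mul]
      rcases hx with rfl | rfl | rfl | rfl <;> rcases hy with rfl | rfl | rfl | rfl <;>
        simp [mul_assoc, hs1, hs2, hc12.symm, h21, h11]
    | inv x _ hx =>
      have i1 : σ1⁻¹ = σ1 := inv_eq_of_mul_eq_one_right hs1
      have i2 : σ2⁻¹ = σ2 := inv_eq_of_mul_eq_one_right hs2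
      rcases hx with rfl | rfl | rfl | rfl <;> simp [i1, i2, hc12.symm]
  have hVc : Nat.card V = 4 := by
    have h1 : σ1 ≠ 1 := fun e => hAB.1 (by rw [← hσA.1, e]; rfl)
    have h2 : σ2 ≠ 1 := fun e => hAB.2.1 (by rw [← hσA.2, e]; rfl)
    have h3 : σ1 ≠ σ2 := fun e => hAB.2.2.2.1 (by rw [← hσA.1, ← hσA.2, e])
    have h4 : σ1 * σ2 ≠ 1 := fun e => h3 (by rw [eq_inv_of_mul_eq_one_left e, inv_eq_of_mul_eq_one_right hs2])
    have hm1 : σ1 ∈ V := Subgroup.subset_closure (Or.inl rfl)
    have hm2 : σ2 ∈ V := Subgroup.subset_closure (Or.inr rfl)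
    have hset : (V : Set (Equiv.Perm ↥B)) = ↑({1, σ1, σ2, σ1 * σ2} : Finset (Equiv.Perm ↥B)) := by
      ext σ
      simp only [SetLike.mem_coe, Finset.coe_insert, Finset.coe_singleton, Set.mem_insert_iff,
        Set.mem_singleton_iff]
      exact ⟨hV σ, by rintro (rfl | rfl | rfl | rfl)
                      exacts [V.one_mem, hm1, hm2, V.mul_mem hm1 hm2]⟩
    have h5 : σ1 * σ2 ≠ σ1 := fun e => h2 (mul_eq_left.mp e)
    have h6 : σ1 * σ2 ≠ σ2 := fun e => h1 (mul_eq_right.mp e)
    rw [← SetLike.coe_sort_coe, hset, Nat.card_coe_set_eq, Set.ncard_coe_finset,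
      Finset.card_insert_of_notMem (by simp [h1.symm, h2.symm, h4.symm]),
      Finset.card_insert_of_notMem (by simp [h3, h5.symm]), Finset.card_pair h6.symm]
  -- a four group of involutions normalising T
  let Q : Subgroup stB := V.comap res
  haveI : Fact (Nat.Prime 2) := ⟨Nat.prime_two⟩
  obtain ⟨S⟩ : Nonempty (Sylow 2 Q) := inferInstance
  have hTst : T ≤ stB := fun g hg => by
    refine Finset.eq_of_subset_of_card_le (fun z hz => ?_) (Finset.card_smul_finset g B).ge
    obtain ⟨w, hw, rfl⟩ := Finset.mem_smul_finset.mp hz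
    rw [(hTm g).mp hg w hw]; exact hw
  have hker : res.ker = T.subgroupOf stB := by
    ext g
    rw [MonoidHom.mem_ker, Subgroup.mem_subgroupOf, hTm]
    exact ⟨fun h z hz => (hres g ⟨z, hz⟩).symm.trans (by rw [h]; rfl),
      fun h => Equiv.ext fun z => Subtype.ext ((hres g z).trans (h z z.2))⟩
  let rQ : Q →* V := (res.comp Q.subtype).codRestrict V fun g => g.2
  have hrQ : Function.Surjective rQ := fun v => by
    obtain ⟨g, hg⟩ := hsurj v
    exact ⟨⟨g, by show res g ∈ V; rw [hg]; exact v.2⟩, Subtype.ext hg⟩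
  have hTc : Nat.card rQ.ker = Nat.card T := by
    refine Nat.card_congr
      { toFun := fun g => ⟨((g.1 : stB) : G), by
          have h1 : res (g.1 : stB) = 1 := congrArg Subtype.val g.2
          rw [← MonoidHom.mem_ker, hker] at h1
          exact h1⟩
        invFun := fun t => ⟨⟨⟨t, hTst t.2⟩, by
            show res _ ∈ V
            rw [show res ⟨t, hTst t.2⟩ = 1 from MonoidHom.mem_ker.mp (hker ▸ t.2)]; exact V.one_mem⟩,
          Subtype.ext (MonoidHom.mem_ker.mp (hker ▸ t.2) : res ⟨t, hTst t.2⟩ = 1)⟩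
        left_inv := fun g => rfl
        right_inv := fun t => rfl }
  have hQc : Nat.card Q = 4 * Nat.card T := by
    rw [Subgroup.card_eq_card_quotient_mul_card_subgroup rQ.ker,
      Nat.card_congr (QuotientGroup.quotientKerEquivOfSurjective rQ hrQ).toEquiv, hVc, hTc]
  have hSc : Nat.card S = 4 := by
    rw [S.card_eq_multiplicity, hQc, Nat.factorization_mul (by norm_num) Nat.card_pos.ne', Finsupp.add_apply,
      Nat.factorization_eq_zero_of_not_dvd (fun h => Nat.not_even_iff_odd.mpr hTodd (even_iff_two_dvd.mpr h)),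
      show (4 : ℕ) = 2 ^ 2 by norm_num, Nat.Prime.factorization_pow Nat.prime_two, Finsupp.single_eq_same,
      add_zero]
  set W : Subgroup G := ((S : Subgroup Q).map Q.subtype).map stB.subtype with hW
  have hWc : Nat.card W = 4 := by
    rw [hW, Subgroup.card_map_of_injective stB.subtype_injective,
      Subgroup.card_map_of_injective Q.subtype_injective, hSc]
  have hWmem : ∀ w ∈ W, w • B = B ∧ (w ∈ T → w = 1) ∧ ∃ v ∈ V, ∀ z : ↥B, w • (z : α) = (v z : α) := by
    rintro _ ⟨_, ⟨q, hq, rfl⟩, rfl⟩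
    refine ⟨(q : stB).2, fun hwT => ?_, _, q.2, fun z => (hres _ z).symm⟩
    have h1 : orderOf ((q : stB) : G) ∣ Nat.card T := orderOf_dvd_of_pow_eq_one
      (congrArg Subtype.val (pow_card_eq_one' (G := T) (x := ⟨((q : stB) : G), hwT⟩)))
    have h2 : orderOf ((q : stB) : G) ∣ 2 ^ 2 := by
      refine orderOf_dvd_of_pow_eq_one ?_
      have h3 := pow_card_eq_one' (G := (S : Subgroup Q)) (x := ⟨q, hq⟩)
      rw [hSc] at h3
      exact congrArg (fun z : (S : Subgroup Q) => (((z : Q) : stB) : G)) h3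
    exact orderOf_eq_one_iff.mp (Nat.eq_one_of_dvd_coprimes
      ((hTodd.coprime_two_right).pow_right 2) h1 h2)
  have hWinv : ∀ w ∈ W, w * w = 1 := by
    intro w hw
    obtain ⟨-, -, v, hv, hvz⟩ := hWmem w hw
    refine (hWmem _ (W.mul_mem hw hw)).2.1 ((hTm _).mpr fun z hz => ?_)
    have hvv : v * v = 1 := by
      have h11 : ∀ z, σ1 * (σ1 * z) = z := fun z => by rw [← mul_assoc, hs1, one_mul]
      rcases hV v hv with rfl | rfl | rfl | rfl
      · simp
      · exact hs1
      · exact hs2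
      · rw [show (σ1 * σ2) * (σ1 * σ2) = σ1 * ((σ2 * σ1) * σ2) by group, ← hc12,
          show σ1 * ((σ1 * σ2) * σ2) = (σ1 * σ1) * (σ2 * σ2) by group, hs1, hs2, one_mul]
    rw [mul_smul, hvz ⟨z, hz⟩, hvz, ← Equiv.Perm.mul_apply, hvv]
    rfl
  have hWnc : ¬ IsCyclic W := by
    intro hcyc
    obtain ⟨g, hg⟩ := hcyc.exists_ofOrder_eq_natCard (α := W)
    have h1 : orderOf g ∣ 2 := orderOf_dvd_of_pow_eq_one (Subtype.ext (by rw [sq]; exact hWinv g g.2))
    rw [hg, hWc] at h1
    norm_num at h1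
  have hWabel : IsMulCommutative W := ⟨⟨fun p q => by
    have hp := hWinv p p.2
    have hq := hWinv q q.2
    have hpq := hWinv _ (p * q).2
    refine Subtype.ext ?_
    have : ((p : G) * q)⁻¹ = p * q := inv_eq_of_mul_eq_one_right hpq
    rw [mul_inv_rev, inv_eq_of_mul_eq_one_right hp, inv_eq_of_mul_eq_one_right hq] at this
    exact this.symm⟩⟩
  have hWnorm : W ≤ Subgroup.normalizer (T : Set G) := fun w hw => by
    have hwB := (hWmem w hw).1
    have key : ∀ v : G, v • B = B → ∀ t ∈ T, v * t * v⁻¹ ∈ T := fun v hv t ht' => (hTm _).mpr fun z hz => by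
      have : v⁻¹ • z ∈ B := by
        rw [← hv] at hz
        obtain ⟨y, hy, rfl⟩ := Finset.mem_smul_finset.mp hz
        rwa [inv_smul_smul]
      rw [mul_smul, mul_smul, (hTm t).mp ht' _ this, smul_inv_smul]
    refine Subgroup.mem_normalizer_iff.mpr fun t => ⟨key w hwB t, fun h => ?_⟩
    have := key w⁻¹ (inv_smul_eq_iff.mpr hwB.symm) _ h
    simpa [mul_assoc] using this
  -- classes are preserved
  have hsep : ∀ (w : G), w ∈ W → ∀ x, x ∉ B → ∀ t ∈ T, τ • t • x ≠ w • x := by
    intro w hw x hx t ht' e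
    obtain ⟨hwB, -, v, hv, hvz⟩ := hWmem w hw
    have hs : (insert x B).card = k := by rw [Finset.card_insert_of_notMem hx, hB]; omega
    let e' : ↥B → ↥(insert x B) := fun z => ⟨z, Finset.mem_insert_of_mem z.2⟩
    let q : G := w⁻¹ * (τ * t)
    have hq : ∀ z : ↥B, q • (z : α) = ((v⁻¹ * Equiv.swap A Bp) z : α) := fun z => by
      rw [show q • (z : α) = w⁻¹ • τ • t • (z : α) by simp [q, mul_smul], (hTm t).mp ht' z z.2, hτ z,
        inv_smul_eq_iff, hvz, Equiv.Perm.mul_apply, Equiv.Perm.coe_inv, Equiv.apply_symm_apply]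
    have hqx : q • x = x := by
      rw [show q • x = w⁻¹ • τ • t • x by simp [q, mul_smul], e, inv_smul_smul]
    have hmem : ∀ z : ↥(insert x B), q • (z : α) ∈ insert x B := fun z => by
      rcases Finset.mem_insert.mp z.2 with h | h
      · rw [h, hqx]; exact Finset.mem_insert_self _ _
      · rw [hq ⟨z, h⟩]; exact Finset.mem_insert_of_mem (Subtype.coe_prop _)
    have hperm : ∀ z, z ∈ insert x B ↔ q • z ∈ insert x B := fun z =>
      ⟨fun hz => hmem ⟨z, hz⟩, fun hz => by
        have h1 : q • insert x B = insert x B := Finset.eq_of_subset_of_card_le (fun y hy => by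
          obtain ⟨u, hu, rfl⟩ := Finset.mem_smul_finset.mp hy
          exact hmem ⟨u, hu⟩) (Finset.card_smul_finset q _).ge
        rw [← h1] at hz
        exact (Finset.smul_mem_smul_finset_iff q).mp hz⟩
    let π : Equiv.Perm ↥(insert x B) := ((q : G) : Equiv.Perm α).subtypePerm fun z => (hperm z).symm
    have hπ := (hall _ hs π).mp ⟨_, q.2, fun z => rfl⟩
    -- compare with the permutation of B
    let ψ : ↥B ≃ {z : ↥(insert x B) // (z : α) ∈ B} :=
      { toFun := fun z => ⟨e' z, z.2⟩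
        invFun := fun z => ⟨(z.1 : α), z.2⟩
        left_inv := fun z => rfl
        right_inv := fun z => rfl }
    have hext : π = (v⁻¹ * Equiv.swap A Bp).extendDomain ψ := by
      ext z
      by_cases hz : (z : α) ∈ B
      · rw [Equiv.Perm.extendDomain_apply_subtype _ ψ hz]
        exact hq ⟨z, hz⟩
      · rw [Equiv.Perm.extendDomain_apply_not_subtype _ ψ hz]
        have : (z : α) = x := (Finset.mem_insert.mp z.2).resolve_right hz
        show q • (z : α) = z
        rw [this, hqx]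
    have hsv : Equiv.Perm.sign v = 1 := by
      rcases hV v hv with rfl | rfl | rfl | rfl <;>
        simp [σ1, σ2, Equiv.Perm.sign_swap hAB.1, Equiv.Perm.sign_swap hAB.2.1,
          Equiv.Perm.sign_swap hAB.2.2.2.2.1, Equiv.Perm.sign_swap hAB.2.2.2.2.2]
    rw [Equiv.Perm.mem_alternatingGroup, hext, Equiv.Perm.sign_extendDomain, map_mul, map_inv, hsv,
      Equiv.Perm.sign_swap hAB.1] at hπ
    exact absurd hπ (by decide)
  -- an odd orbit
  have horbW : ∀ x, x ∉ B → ∀ w ∈ W, ∃ t ∈ T, t • x = w • x := fun x hx w hw => by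
    have hwx : w • x ∉ B := fun h => hx (by
      rw [← (hWmem w hw).1] at h; exact (Finset.smul_mem_smul_finset_iff w).mp h)
    rcases horb x (w • x) hx hwx with h | ⟨t, ht', e⟩
    · exact h
    · exact absurd e (hsep w hw x hx t ht')
  have hfixpt : ∀ x, x ∉ B → ∃ u, u ∉ B ∧ (∃ t ∈ T, t • x = u) ∧ ∀ w ∈ W, w • u = u := by
    intro x hx
    let O : SubMulAction W α :=
      { carrier := {y | ∃ t ∈ T, t • x = y}
        smul_mem' := by
          rintro ⟨w, hw⟩ y ⟨t, ht', rfl⟩
          have hy : t • x ∉ B := fun h => hx (by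
            have := (hTm _).mp (T.inv_mem ht') _ h
            rw [inv_smul_smul] at this; rwa [← this] at h)
          obtain ⟨t', ht'', e⟩ := horbW _ hy w hw
          exact ⟨t' * t, T.mul_mem ht'' ht', by rw [mul_smul]; exact e⟩ }
    have hOc : Nat.card O ∣ Nat.card T := by
      have h1 : Nat.card O = Nat.card (orbit T x) := Nat.card_congr (Equiv.subtypeEquivRight fun y =>
        ⟨fun ⟨t, ht', e⟩ => ⟨⟨t, ht'⟩, e⟩, fun ⟨t, e⟩ => ⟨t, t.2, e⟩⟩)
      rw [h1, Nat.card_congr (orbitEquivQuotientStabilizer T x)]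
      exact Subgroup.card_quotient_dvd_card _
    have hWp : IsPGroup 2 W := IsPGroup.of_card (n := 2) hWc
    obtain ⟨⟨u, hu⟩, hfix⟩ := hWp.nonempty_fixed_point_of_prime_not_dvd_card O (fun h =>
      Nat.not_even_iff_odd.mpr hTodd (even_iff_two_dvd.mpr (h.trans hOc)))
    obtain ⟨t, ht', rfl⟩ := hu
    refine ⟨t • x, fun h => hx (by
      have := (hTm _).mp (T.inv_mem ht') _ h
      rw [inv_smul_smul] at this; rwa [← this] at h), ⟨t, ht', rfl⟩, fun w hw => ?_⟩
    exact congrArg Subtype.val (hfix ⟨w, hw⟩)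
  obtain ⟨x₀, -, hx₀⟩ := Finset.exists_mem_notMem_of_card_lt_card (s := B) (t := (Finset.univ : Finset α))
    (by rw [Finset.card_univ]; omega)
  obtain ⟨u, hu, -, huW⟩ := hfixpt x₀ hx₀
  have hτu : τ • u ∉ B := fun h => hu (by
    have hτB : τ • B = B := Finset.eq_of_subset_of_card_le (fun y hy => by
      obtain ⟨z, hz, rfl⟩ := Finset.mem_smul_finset.mp hy
      rw [hτ ⟨z, hz⟩]; exact Subtype.coe_prop _) (Finset.card_smul_finset τ B).ge
    rw [← hτB] at h; exact (Finset.smul_mem_smul_finset_iff τ).mp h)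
  obtain ⟨u', hu', ⟨t₁, ht₁, htu'⟩, hu'W⟩ := hfixpt (τ • u) hτu
  have hother : ∀ t ∈ T, t • τ • u ≠ u := fun t ht' e => by
    refine hodd (t * τ) u hu (by rwa [mul_smul]) ?_ ?_ fun z hz h1 h2 => ?_
    · rw [mul_smul, hτa, (hTm t).mp ht' b haB.2.1]
    · rw [mul_smul, hτb, (hTm t).mp ht' a haB.1]
    · rw [mul_smul, hτz z hz h1 h2, (hTm t).mp ht' z hz]
  have huu' : u ≠ u' := fun e => hother t₁ ht₁ (htu'.trans e.symm)
  -- no involution fixes a third point
  have hfixset : ∀ w ∈ W, w ≠ 1 → ∀ y, y ∉ B → w • y = y → y = u ∨ y = u' := by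
    intro w hw hw1 y hy hwy
    by_contra hne'
    rw [not_or] at hne'
    obtain ⟨-, hwT, v, hv, hvz⟩ := hWmem w hw
    obtain ⟨p, hp⟩ : ∃ p : ↥B, v p ≠ p := by
      by_contra! hc
      exact hw1 (hwT ((hTm w).mpr fun z hz => (hvz ⟨z, hz⟩).trans (congrArg Subtype.val (hc _))))
    have hvfix : ∀ z : ↥B, z ≠ A → z ≠ Bp → z ≠ C → z ≠ D → v z = z := fun z h1 h2 h3 h4 => by
      rcases hV v hv with rfl | rfl | rfl | rfl <;>
        simp [σ1, σ2, Equiv.swap_apply_of_ne_of_ne, h1, h2, h3, h4]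
    set r := B \ s4
    have hr : r.card = k - 5 := by rw [Finset.card_sdiff_of_subset hs4, hB, hs4c]; omega
    have hr4 : ∀ z ∈ r, w • z = z := fun z hz => by
      rw [Finset.mem_sdiff] at hz
      rw [hvz ⟨z, hz.1⟩, hvfix] <;> intro e <;> refine hz.2 ?_ <;>
        rw [show z = _ from congrArg Subtype.val e] <;>
        first | exact h4.1 | exact h4.2.1 | exact h4.2.2.1 | exact h4.2.2.2
    have hp' : (v p : α) ≠ p := fun e => hp (Subtype.ext e)
    have hrp : ∀ z ∈ r, z ≠ (p : α) := fun z hz e => hp' (by rw [← hvz, ← e, hr4 z hz])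
    have hrp' : ∀ z ∈ r, z ≠ (v p : α) := fun z hz e => hp' (by
      have := hr4 z hz
      rw [e, ← hvz p] at this
      exact (hvz p).symm.trans (MulAction.injective w this))
    have hcard : (insert u (insert u' (insert y r))).card = k - 2 := by
      have hnr : ∀ z, z ∉ B → z ∉ r := fun z hz h => hz (Finset.mem_sdiff.mp h).1
      rw [Finset.card_insert_of_notMem (by simp [huu', Ne.symm hne'.1, hnr u hu]),
        Finset.card_insert_of_notMem (by simp [Ne.symm hne'.2, hnr u' hu']),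
        Finset.card_insert_of_notMem (hnr y hy), hr]
      omega
    refine hswap w p (v p) (Ne.symm hp') (hvz p) ?_ _ hcard ?_ ?_ fun z hz => ?_
    · rw [← hvz p, ← mul_smul, hWinv w hw, one_smul]
    · simp only [Finset.mem_insert, not_or]
      exact ⟨fun e => hu (e ▸ p.2), fun e => hu' (e ▸ p.2), fun e => hy (e ▸ p.2), fun h => hrp _ h rfl⟩
    · simp only [Finset.mem_insert, not_or]
      exact ⟨fun e => hu (e ▸ (v p).2), fun e => hu' (e ▸ (v p).2), fun e => hy (e ▸ (v p).2),
        fun h => hrp' _ h rfl⟩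
    · simp only [Finset.mem_insert] at hz
      rcases hz with rfl | rfl | rfl | hz
      exacts [huW w hw, hu'W w hw, hwy, hr4 z hz]
  -- hence T fixes u
  have hcop : (Nat.card W).Coprime (Nat.card T) := by
    rw [hWc, show (4 : ℕ) = 2 ^ 2 by norm_num]
    exact (hTodd.coprime_two_left).pow_left 2
  haveI := hWabel
  have hgen := Cfsg.Agent.Coprime.iSup_centralizer_eq (A := W) (K := T) hWnc hWnorm hcop
  have hTu : T ≤ stabilizer G u := by
    rw [← hgen]
    refine iSup₂_le fun w hw t ht' => ?_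
    obtain ⟨htT, htc⟩ := Subgroup.mem_inf.mp ht'
    have h1 : w • t • u = t • u := by
      rw [← mul_smul, ← Subgroup.mem_centralizer_singleton_iff.mp htc, mul_smul, huW w hw.1]
    have h2 : t • u ∉ B := fun h => hu (by
      have := (hTm _).mp (T.inv_mem htT) _ h
      rw [inv_smul_smul] at this; rwa [← this] at h)
    rcases hfixset w hw.1 hw.2 _ h2 h1 with e | e
    · exact e
    · exfalso
      refine hother (t⁻¹ * t₁) (T.mul_mem (T.inv_mem htT) ht₁) ?_
      rw [mul_smul, htu', ← e, inv_smul_smul]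
  -- so there are only two further points
  have hsub : (Finset.univ : Finset α) ⊆ insert u (insert (τ • u) B) := fun y _ => by
    by_cases hy : y ∈ B
    · simp [hy]
    rcases horb u y hu hy with ⟨t, ht', e⟩ | ⟨t, ht', e⟩
    · rw [show t • u = u from hTu ht'] at e
      simp [e]
    · rw [show t • u = u from hTu ht'] at e
      simp [e]
  have h1 := (Finset.card_le_card hsub).trans
    ((Finset.card_insert_le _ _).trans (Nat.add_le_add_right (Finset.card_insert_le _ _) 1))
  rw [Finset.card_univ, hB] at h1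
  omega

end Cfsg.Agent.PermGroups.LW
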